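import Groth.Agent.H12AlgSp.SubExt.IdealFT
import Groth.Agent.H12AlgSp.MinimalNonscheme
import Groth.Agent.H12AlgSp.Proper
import Groth.Agent.H13EtMod.Coh

/-!
A closed subspace as the limit of the closed subspaces of finitely generated ideals.
-/

set_option autoImplicit false
set_option backward.isDefEq.respectTransparency false
set_option linter.style.haveILetI false

universe u

open CategoryTheory CategoryTheory.Limits AlgebraicGeometry Opposite
open AlgSp Groth.Agent.H12AlgSp Groth.Agent.H12AlgSp.BCMod Groth.Agent.H13Cartier Groth.Agent.H13AlgSp Groth.Agent.H13EtMod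

namespace Groth.Agent.H12AlgSp.SubExt

variable {S : Scheme.{u}}

/-- Factorization through a monomorphism of sheaves is checked on points. -/
theorem exists_factor_of_points {F Z Y : Sp S} (i : Z ⟶ Y) [Mono i] (h : F ⟶ Y)
    (hp : ∀ (T : Over S) (x : (yon S).obj T ⟶ F), ∃ k : (yon S).obj T ⟶ Z, k ≫ i = x ≫ h) :
    ∃ k : F ⟶ Z, k ≫ i = h := by
  haveI : Mono i.hom := inferInstanceAs (Mono ((sheafToPresheaf _ _).map i))
  have hr : Subfunctor.range h.hom ≤ Subfunctor.range i.hom := fun T => by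
    rintro _ ⟨x, rfl⟩
    obtain ⟨k, hk⟩ := hp T.unop (((Scheme.fppfTopology.over S)).uliftYonedaEquiv.{u + 1}.symm x)
    refine ⟨((Scheme.fppfTopology.over S)).uliftYonedaEquiv.{u + 1} k, ?_⟩
    have e := congrArg ((Scheme.fppfTopology.over S)).uliftYonedaEquiv.{u + 1} hk
    rw [GrothendieckTopology.uliftYonedaEquiv_comp, GrothendieckTopology.uliftYonedaEquiv_comp,
      Equiv.apply_symm_apply] at e
    exact e
  refine ⟨⟨Subfunctor.lift h.hom hr ≫ inv (Subfunctor.toRange i.hom)⟩, Sheaf.hom_ext ?_⟩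
  change (Subfunctor.lift h.hom hr ≫ inv (Subfunctor.toRange i.hom)) ≫ i.hom = h.hom
  conv_lhs => enter [2]; rw [← Subfunctor.toRange_ι i.hom]
  rw [Category.assoc, IsIso.inv_hom_id_assoc]
  exact Subfunctor.lift_ι h.hom hr

variable {X : Sp S}

theorem isQCoh_sup {I J : IdealEt X} (hI : I.IsQCoh) (hJ : J.IsQCoh) : (I ⊔ J).IsQCoh := fun E E' g hE hE' => by
  rw [IdealEt.sup_ideal, IdealEt.sup_ideal, Ideal.map_sup]
  exact sup_le_sup (hI g hE hE') (hJ g hE hE')

theorem isQCoh_bot : (⊥ : IdealEt X).IsQCoh := fun E E' g hE hE' => bot_le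

/-- Quasi-coherent ideals are compared on a chart covering all points. -/
theorem le_of_chart (A : EtOver X) (hA : IsAffine A.obj.left.left)
    (hs : Set.range (Points.ofPt A.obj.hom) = Set.univ) {I I' : IdealEt X} (hI : I.IsQCoh) (hI' : I'.IsQCoh)
    (h : I.ideal A hA ≤ I'.ideal A hA) : I ≤ I' := by
  intro E hE a ha
  let hM₀ : IsBCEt (unitModEt X) := isBCMod_unit (Rsh := OEt X) (A := etAff X)
  let N := idealSubOn I' hI'
  let x : (pm (unitModEt X)).obj (op E) := upE E a
  have key : x ∈ N.obj E hE (inSet_univ E) := by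
    refine mem_span_of_forall_point hM₀ hE _ x fun e => ?_
    obtain ⟨W, g, b, w, hW, hw⟩ := H13EtMod.exists_affine_over (E₀ := A) e (hs.ge (Set.mem_univ _))
    refine ⟨W, g, w, hw, N.gen g hW hE (inSet_univ W) (inSet_univ E) _ ?_⟩
    change (upE W).symm (upE W (g.hom.left.left.appTop.hom a)) ∈ I'.ideal W hW
    rw [RingEquiv.symm_apply_apply]
    exact I'.map_le b hA hW (Ideal.map_mono h (hI b hA hW (I.map_le g hE hW (Ideal.mem_map_of_mem _ ha))))
  change (upE E).symm (upE E a) ∈ I'.ideal E hE at key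
  rwa [RingEquiv.symm_apply_apply] at key

/-- A local section of a quasi-coherent ideal lies in a finitely generated one. -/
theorem exists_fg_le_mem [QuasiSeparatedSpace S] (hX : IsAlgSpace X) (hqc : IsQuasiCompactSp X)
    (hqs : IsQuasiSeparatedSp X) {J : IdealEt X} (hJ : J.IsQCoh) (A : EtOver X) (hA : IsAffine A.obj.left.left)
    {a : Γ(A.obj.left.left, ⊤)} (ha : a ∈ J.ideal A hA) :
    ∃ I : IdealEt X, I.IsQCoh ∧ (∀ (E : EtOver X) (hE : IsAffine E.obj.left.left), (I.ideal E hE).FG) ∧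
      I ≤ J ∧ a ∈ I.ideal A hA := by
  let hM₀ : IsBCEt (unitModEt X) := isBCMod_unit (Rsh := OEt X) (A := etAff X)
  let NJ := idealSubOn J hJ
  let P := isDown_inSet (Set.univ : Set (Points X))
  have hMJ : IsBCEt (NJ.toMod P hM₀) := fun _ _ g hZ hE =>
    NJ.isBC_of_mem P hM₀ g hZ hE (inSet_univ _) (inSet_univ _)
  have hx : (show (pm (unitModEt X)).obj (op A) from upE A a) ∈ NJ.sub.obj (op A) :=
    (NJ.mem_sub_iff hA (inSet_univ A) _).2 (by
      change (upE A).symm (upE A a) ∈ J.ideal A hA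
      rw [RingEquiv.symm_apply_apply]; exact ha)
  obtain ⟨N₁, hN₁, hN₁x⟩ := exists_mem hX hqs hMJ hqc A hA (⟨_, hx⟩ : NJ.sub.obj (op A))
  let ψ := N₁.incl P hMJ ≫ NJ.incl P hM₀
  let N₂ := SubOn.ofHom ψ ((isQuasicoherent_iff_isBCEt _).1 (N₁.isQuasicoherent_toMod hMJ))
    (InSet (Set.univ : Set (Points X)))
  have hN₂ : N₂.FG := SubOn.fg_ofHom ψ _
    ((H13EtMod.isFiniteType_iff (N₁.isQuasicoherent_toMod hMJ)).1 (N₁.isFiniteType_toMod hMJ hN₁)) _
  refine ⟨subOnIdeal N₂, isQCoh_subOnIdeal N₂, fg_subOnIdeal N₂ hN₂, fun E hE f hf => ?_, ?_⟩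
  · obtain ⟨y, hy⟩ := hf
    have h2 := (NJ.mem_sub_iff hE (inSet_univ E) _).1 ((appE (N₁.incl P hMJ) E y).2)
    have h3 : (show (pm (unitModEt X)).obj (op E) from upE E f) ∈ NJ.obj E hE (inSet_univ E) := hy ▸ h2
    change (upE E).symm (upE E f) ∈ J.ideal E hE at h3
    rwa [RingEquiv.symm_apply_apply] at h3
  · obtain ⟨y, hy⟩ := (N₁.mem_range_incl hMJ hA _).2 hN₁x
    exact ⟨y, congrArg Subtype.val hy⟩

theorem isFinitePresentationMor_of_fg (hX : IsAlgSpace X) {Z : Sp S} (hZ : IsAlgSpace Z) {i : Z ⟶ X}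
    {I : IdealEt X} (h : IsCutOutBy I i) (hfg : ∀ (E : EtOver X) (hE : IsAffine E.obj.left.left), (I.ideal E hE).FG) :
    IsFinitePresentationMor i := by
  obtain ⟨hi, rfl⟩ := h
  haveI := mono_of_closedImmersion hi
  exact ⟨(locP_lfp_iff_fg hX hZ hi).2 hfg,
    isQuasiCompactMor_of_repWith hZ hX
      (repWith_le (P := @IsClosedImmersion) (Q := @QuasiCompact) (fun _ _ k (_ : IsClosedImmersion k) => inferInstance) hi),
    isQuasiSeparatedMor_of_isSeparatedMor (isSeparatedMor_of_mono i)⟩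

section System

variable (J : IdealEt X) (A : EtOver X) (hA : IsAffine A.obj.left.left)

/-- Finitely generated quasi-coherent ideals inside a given one, through their values on a chart. -/
def FTIdx : Type u :=
  {K : Ideal Γ(A.obj.left.left, ⊤) // ∃ I : IdealEt X, I.IsQCoh ∧
    (∀ (E : EtOver X) (hE : IsAffine E.obj.left.left), (I.ideal E hE).FG) ∧ I ≤ J ∧ I.ideal A hA = K}

variable {J A hA}

/-- The ideal of an index. -/
noncomputable def FTIdx.rep (k : FTIdx J A hA) : IdealEt X := k.2.choose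

theorem FTIdx.qcoh (k : FTIdx J A hA) : k.rep.IsQCoh := k.2.choose_spec.1
theorem FTIdx.fg (k : FTIdx J A hA) (E : EtOver X) (hE : IsAffine E.obj.left.left) : (k.rep.ideal E hE).FG :=
  k.2.choose_spec.2.1 E hE
theorem FTIdx.le (k : FTIdx J A hA) : k.rep ≤ J := k.2.choose_spec.2.2.1
theorem FTIdx.val_eq (k : FTIdx J A hA) : k.rep.ideal A hA = k.1 := k.2.choose_spec.2.2.2

instance : Preorder (FTIdx J A hA) where
  le k l := k.rep ≤ l.rep
  le_refl k E hE := le_rfl
  le_trans k l m h h' E hE := (h E hE).trans (h' E hE)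

theorem FTIdx.exists_ge (hs : Set.range (Points.ofPt A.obj.hom) = Set.univ) {I : IdealEt X} (hI : I.IsQCoh)
    (hfg : ∀ (E : EtOver X) (hE : IsAffine E.obj.left.left), (I.ideal E hE).FG) (hle : I ≤ J) :
    ∃ k : FTIdx J A hA, I ≤ k.rep :=
  let k : FTIdx J A hA := ⟨I.ideal A hA, I, hI, hfg, hle, rfl⟩
  ⟨k, le_of_chart A hA hs hI k.qcoh k.val_eq.ge⟩

theorem FTIdx.isDirected (hs : Set.range (Points.ofPt A.obj.hom) = Set.univ) :
    IsDirected (FTIdx J A hA) (· ≤ ·) :=
  ⟨fun k l => by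
    obtain ⟨m, hm⟩ := FTIdx.exists_ge (J := J) (hA := hA) hs (isQCoh_sup k.qcoh l.qcoh)
      (fun E hE => Submodule.FG.sup (k.fg E hE) (l.fg E hE)) (fun E hE => sup_le (k.le E hE) (l.le E hE))
    exact ⟨m, fun E hE => le_sup_left.trans (hm E hE), fun E hE => le_sup_right.trans (hm E hE)⟩⟩

theorem FTIdx.nonempty (hs : Set.range (Points.ofPt A.obj.hom) = Set.univ) : Nonempty (FTIdx J A hA) :=
  ⟨(FTIdx.exists_ge (J := J) (hA := hA) hs isQCoh_bot (fun _ _ => Submodule.fg_bot) (fun _ _ => bot_le)).choose⟩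

end System

/-- A closed subspace is the limit of those of finitely generated ideals. -/
theorem exists_ftLimit [QuasiSeparatedSpace S] {Y : Sp S} {X : Sp S} (hY : IsAlgSpace Y) (hX : IsAlgSpace X)
    (hqc : IsQuasiCompactSp Y) (hqs : IsQuasiSeparatedSp Y) {f : X ⟶ Y} (hf : RepWith @IsClosedImmersion f) :
    ∃ (I : Type u) (_ : Preorder I) (_ : IsDirected I (fun a b => a ≤ b)) (_ : Nonempty I) (D : Iᵒᵖ ⥤ Sp S)
      (t : D ⟶ (Functor.const Iᵒᵖ).obj Y) (c : Cone D) (_ : IsLimit c) (e : c.pt ≅ X),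
      (∀ i, IsAlgSpace (D.obj i)) ∧ (∀ (i j : Iᵒᵖ) (φ : i ⟶ j), RepWith @IsClosedImmersion (D.map φ)) ∧
      (∀ i, RepWith @IsClosedImmersion (t.app i) ∧ IsFinitePresentationMor (t.app i)) ∧
      (∀ i, e.inv ≫ c.π.app i ≫ t.app i = f) := by
  let J := idealOfRep hf.1
  have hJc : IsCutOutBy J f := ⟨hf, rfl⟩
  have hJ : J.IsQCoh := isQCoh_of_isCutOutBy hJc
  haveI := compactSpace_points_of_isQuasiCompactSp hqc
  obtain ⟨T, a, hT, ha, hs⟩ := exists_affine_chart hY isOpen_univ isCompact_univ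
  let A := EtOver.mk a ha
  let Idx := FTIdx J A hT
  haveI hdir : IsDirected Idx (fun a b => a ≤ b) := FTIdx.isDirected (J := J) (A := A) (hA := hT) hs
  haveI hne : Nonempty Idx := FTIdx.nonempty (J := J) (A := A) (hA := hT) hs
  choose Z i hZ hi using fun k : Idx => exists_isCutOutBy hY k.rep k.qcoh
  have hmono : ∀ k, Mono (i k) := fun k => mono_of_closedImmersion (hi k).choose
  have hmap : ∀ {k l : Idx}, k ≤ l → ∃ g : Z l ⟶ Z k, g ≫ i k = i l := fun {k l} h =>
    (le_iff_factors hY (hZ l) (hi k) (hi l)).1 h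
  choose m hm using @hmap
  let D : Idxᵒᵖ ⥤ Sp S :=
    { obj := fun k => Z k.unop
      map := fun φ => m φ.unop.le
      map_id := fun k => (hmono k.unop).right_cancellation _ _ (by rw [hm, Category.id_comp])
      map_comp := fun {k l n} φ ψ => (hmono n.unop).right_cancellation _ _ (by
        rw [Category.assoc, hm, hm, hm]) }
  let t : D ⟶ (Functor.const Idxᵒᵖ).obj Y :=
    { app := fun k => i k.unop
      naturality := fun k l φ => (hm φ.unop.le).trans (Category.comp_id _).symm }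
  have hπ : ∀ k : Idx, ∃ g : X ⟶ Z k, g ≫ i k = f := fun k =>
    (le_iff_factors hY hX (hi k) hJc).1 k.le
  choose π hπ using hπ
  let c : Cone D :=
    { pt := X
      π :=
      { app := fun k => π k.unop
        naturality := fun k l φ => (hmono l.unop).right_cancellation _ _ (by
          rw [Category.assoc, Category.assoc]
          change 𝟙 X ≫ π l.unop ≫ i l.unop = π k.unop ≫ m φ.unop.le ≫ i l.unop
          rw [Category.id_comp, hm, hπ, hπ]) } }
  haveI := mono_of_closedImmersion hf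
  have heq : ∀ (s : Cone D) (k l : Idx), s.π.app (op k) ≫ i k = s.π.app (op l) ≫ i l := fun s k l => by
    obtain ⟨n, hk, hl⟩ := directed_of (α := Idx) (· ≤ ·) k l
    rw [← s.w (homOfLE hk).op, ← s.w (homOfLE hl).op, Category.assoc, Category.assoc]
    exact congrArg (s.π.app (op n) ≫ ·) ((hm hk).trans (hm hl).symm)
  have hlift : ∀ s : Cone D, ∃ g : s.pt ⟶ X, ∀ k : Idx, g ≫ f = s.π.app (op k) ≫ i k := fun s => by
    obtain ⟨k₀⟩ := hne
    obtain ⟨g, hg⟩ := exists_factor_of_points f (s.π.app (op k₀) ≫ i k₀) fun T x => by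
      let h := x ≫ s.π.app (op k₀) ≫ i k₀
      refine (yon_factors_iff hY hJc (hY.representable_from_yon h)).2 fun E hE a ha => ?_
      obtain ⟨I, hI, hfg, hle, haI⟩ := exists_fg_le_mem hY hqc hqs hJ E hE ha
      obtain ⟨k, hk⟩ := FTIdx.exists_ge (J := J) (A := A) (hA := hT) hs hI hfg hle
      have h1 : k.rep ≤ idealOfRep (hY.representable_from_yon h) :=
        (yon_factors_iff hY (hi k) (hY.representable_from_yon h)).1
          ⟨x ≫ s.π.app (op k), by rw [Category.assoc, heq s k k₀]⟩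
      exact h1 E hE (hk E hE haI)
    exact ⟨g, fun k => hg.trans (heq s k₀ k)⟩
  choose lift hlift using hlift
  let hlim : IsLimit c :=
    { lift := lift
      fac := fun s k => (hmono k.unop).right_cancellation _ _ (by
        rw [Category.assoc]
        exact (congrArg (lift s ≫ ·) (hπ k.unop)).trans (hlift s k.unop))
      uniq := fun s g hg => by
        obtain ⟨k₀⟩ := hne
        rw [← cancel_mono f, hlift s k₀, ← hg (op k₀), Category.assoc]
        exact congrArg (g ≫ ·) (hπ k₀).symm }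
  refine ⟨Idx, inferInstance, hdir, hne, D, t, c, hlim, Iso.refl _, fun k => hZ k.unop, fun k l φ => ?_,
    fun k => ⟨(hi k.unop).choose, isFinitePresentationMor_of_fg hY (hZ k.unop) (hi k.unop) k.unop.fg⟩, fun k => ?_⟩
  · haveI := hmono l.unop
    exact repWith_of_comp_mono (hi k.unop).choose (f₂ := i l.unop) (hm φ.unop.le)
  · exact (Category.id_comp _).trans (hπ k.unop)

end Groth.Agent.H12AlgSp.SubExt
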