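import Groth.Agent.H12AlgSp.SubExt.Local
import Groth.Agent.H12AlgSp.EtOpens
import Mathlib.RingTheory.Localization.BaseChange
import Mathlib.Algebra.Module.LocalizedModule.IsLocalization

/-!
Sections over basic opens of affine objects, objects over a set of points, sums of submodules.
-/

set_option backward.isDefEq.respectTransparency false

universe u

open CategoryTheory CategoryTheory.Limits AlgebraicGeometry Opposite
open AlgSp Groth.Agent.H12AlgSp Groth.Agent.H12AlgSp.BCMod
open scoped TensorProduct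

namespace Groth.Agent.H12AlgSp.SubExt

variable {S : Scheme.{u}} {X : Sp S}

/-- A map with image in an open lifts to it. -/
theorem exists_lift_etOpen {W E : EtOver X} (g : W ⟶ E) (V : E.obj.left.left.Opens)
    (h : ∀ w, g.hom.left.left w ∈ V) : ∃ l : W ⟶ etOpen E V, l ≫ etOpenι E V = g := by
  have hr : Set.range g.hom.left.left ⊆ Set.range V.ι := by
    rw [Scheme.Opens.range_ι]; exact Set.range_subset_iff.2 h
  let a : W.obj.left ⟶ (etOpen E V).obj.left := Over.homMk (IsOpenImmersion.lift V.ι g.hom.left.left hr) (by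
    change IsOpenImmersion.lift V.ι g.hom.left.left hr ≫ V.ι ≫ E.obj.left.hom = W.obj.left.hom
    rw [IsOpenImmersion.lift_fac_assoc]; exact Over.w g.hom.left)
  refine ⟨EtOver.homMk a ?_, EtOver.hom_ext _ _ (Over.OverMorphism.ext (IsOpenImmersion.lift_fac _ _ hr))⟩
  change (yon S).map a ≫ (yon S).map _ ≫ E.obj.hom = W.obj.hom
  rw [← Functor.map_comp_assoc, ← EtOver.w g]
  congr 2
  exact Over.OverMorphism.ext (IsOpenImmersion.lift_fac _ _ hr)

/-- A point of an object has an affine neighbourhood inside any open. -/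
theorem exists_affine_etOpen {E : EtOver X} (e : E.obj.left.left) (V : E.obj.left.left.Opens) (he : e ∈ V) :
    ∃ (W : EtOver X) (g : W ⟶ E) (w : W.obj.left.left),
      IsAffine W.obj.left.left ∧ g.hom.left.left w = e ∧ ∀ w', g.hom.left.left w' ∈ V := by
  obtain ⟨_, ⟨U, hU, rfl⟩, heU, hUV⟩ :=
    E.obj.left.left.isBasis_affineOpens.exists_subset_of_mem_open he V.2
  exact ⟨etOpen E U, etOpenι E U, ⟨e, heU⟩, hU, rfl, fun w' => hUV w'.2⟩

theorem ofPt_comp {W E : EtOver X} (g : W ⟶ E) (w : W.obj.left.left) :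
    Points.ofPt W.obj.hom w = Points.ofPt E.obj.hom (g.hom.left.left w) := by
  rw [← ofPt_map, EtOver.w g]

/-- Objects lying over a set of points. -/
def InSet (O : Set (Points X)) (E : EtOver X) : Prop := ∀ e, Points.ofPt E.obj.hom e ∈ O

theorem isDown_inSet (O : Set (Points X)) : IsDown (InSet O) := fun {Z E} g h z => ofPt_comp g z ▸ h _

theorem inSet_univ (E : EtOver X) : InSet Set.univ E := fun _ => trivial

section Localization

variable {E : EtOver X} (f : (OEt X).obj.obj (op E))

/-- The functions on a basic open are a localization. -/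
theorem isLocalization_basic (hE : IsAffine E.obj.left.left) :
    IsLocalization.Away f (RingOf (OEt X).obj (etOpenι E (E.obj.left.left.basicOpen f.down))) := by
  let T := E.obj.left.left
  let D := T.basicOpen f.down
  have hB : IsLocalization.Away (show Γ(T, ⊤) from f.down) Γ(T, D) :=
    (isAffineOpen_top T).isLocalization_basicOpen f.down
  have key : ∀ a : (OEt X).obj.obj (op E),
      (algebraMap ((OEt X).obj.obj (op E)) (RingOf (OEt X).obj (etOpenι E D)) a) =
        (ULift.up (D.topIso.inv (algebraMap Γ(T, ⊤) Γ(T, D) a.down)) : RingOf (OEt X).obj (etOpenι E D)) := by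
    intro a
    refine ULift.ext _ _ ?_
    change D.ι.appTop a.down = D.topIso.inv (T.presheaf.map (homOfLE le_top).op a.down)
    simp only [Scheme.Opens.ι_appTop, Scheme.Opens.topIso_inv, ← CommRingCat.comp_apply, ← Functor.map_comp]
    rfl
  constructor
  refine ⟨?_, ?_, ?_⟩
  · rintro ⟨_, n, rfl⟩
    rw [map_pow]
    exact (isUnit_OEt_map_open E f).pow n
  · intro z
    obtain ⟨⟨x, ⟨_, n, rfl⟩⟩, hx⟩ := IsLocalization.surj (Submonoid.powers (show Γ(T, ⊤) from f.down))
      (D.topIso.hom (show ULift.{u + 1} Γ(D.toScheme, ⊤) from z).down)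
    refine ⟨⟨ULift.up x, ⟨f ^ n, n, rfl⟩⟩, ?_⟩
    rw [key, key]
    refine ULift.ext _ _ ?_
    have h := congrArg D.topIso.inv hx
    rw [map_mul, ← CommRingCat.comp_apply, Iso.hom_inv_id] at h
    exact h
  · intro a b hab
    rw [key, key] at hab
    obtain ⟨⟨_, n, rfl⟩, hn⟩ := IsLocalization.exists_of_eq (M := Submonoid.powers (show Γ(T, ⊤) from f.down))
      (S := Γ(T, D)) (x := a.down) (y := b.down) (by
        have := congrArg (fun z => D.topIso.hom (ULift.down z)) hab
        simpa [← CommRingCat.comp_apply] using this)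
    exact ⟨⟨f ^ n, n, rfl⟩, ULift.ext _ _ hn⟩

variable {M : ModEt X} (hM : IsBCEt M)

include hM in
/-- Sections over a basic open extend after multiplication by a power. -/
theorem exists_pow_smul_eq (hE : IsAffine E.obj.left.left)
    (y : (pm M).obj (op (etOpen E (E.obj.left.left.basicOpen f.down)))) :
    ∃ (n : ℕ) (x : (pm M).obj (op E)), ((pm M).map (etOpenι E (E.obj.left.left.basicOpen f.down)).op).hom x =
      ((OEt X).obj.map (etOpenι E (E.obj.left.left.basicOpen f.down)).op).hom (f ^ n) • y := by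
  let g := etOpenι E (E.obj.left.left.basicOpen f.down)
  have hD : IsAffine (etOpen E (E.obj.left.left.basicOpen f.down)).obj.left.left :=
    (isAffineOpen_top E.obj.left.left).basicOpen f.down
  have := isLocalization_basic f hE
  have := (isLocalizedModule_iff_isBaseChange (Submonoid.powers f) (RingOf (OEt X).obj g)
    (TensorProduct.mk ((OEt X).obj.obj (op E)) (RingOf (OEt X).obj g) (Sec (pm M) (𝟙 E)) 1)).2
      (TensorProduct.isBaseChange _ _ _)
  obtain ⟨t, ht⟩ := (hM g hD hE).2 (toSec (pm M) g y)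
  obtain ⟨⟨x, ⟨_, n, rfl⟩⟩, hx⟩ := IsLocalizedModule.surj (Submonoid.powers f)
    (TensorProduct.mk ((OEt X).obj.obj (op E)) (RingOf (OEt X).obj g) (Sec (pm M) (𝟙 E)) 1) t
  refine ⟨n, ofSec (pm M) x, ?_⟩
  have h := congrArg (ext (pm M) g) hx
  rw [Submonoid.smul_def, map_smul, ht, TensorProduct.mk_apply, ext_tmul, one_smul] at h
  exact h.symm

include hM in
/-- A section lying in a submodule on a basic open does so after multiplication by a power. -/
theorem exists_pow_smul_mem (hE : IsAffine E.obj.left.left)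
    (K : Submodule ((OEt X).obj.obj (op E)) ((pm M).obj (op E))) (x : (pm M).obj (op E))
    (h : ((pm M).map (etOpenι E (E.obj.left.left.basicOpen f.down)).op).hom x ∈
      resSpan (etOpenι E (E.obj.left.left.basicOpen f.down)) K) : ∃ n : ℕ, f ^ n • x ∈ K := by
  let g := etOpenι E (E.obj.left.left.basicOpen f.down)
  let R := (OEt X).obj.obj (op E)
  let T := RingOf (OEt X).obj g
  have hD : IsAffine (etOpen E (E.obj.left.left.basicOpen f.down)).obj.left.left :=
    (isAffineOpen_top E.obj.left.left).basicOpen f.down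
  have := isLocalization_basic f hE
  have := (isLocalizedModule_iff_isBaseChange (Submonoid.powers f) T
    (TensorProduct.mk R T (Sec (pm M) (𝟙 E)) 1)).2 (TensorProduct.isBaseChange _ _ _)
  have := (isLocalizedModule_iff_isBaseChange (Submonoid.powers f) T
    (TensorProduct.mk R T (secOf K) 1)).2 (TensorProduct.isBaseChange _ _ _)
  obtain ⟨t, ht⟩ := span_mem_range g (secOf K) (((pm M).map g.op).hom x)
    (Submodule.span_mono (Set.image_mono (t := {y | toSec (pm M) (𝟙 E) y ∈ secOf K}) fun y hy => hy) h)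
  have h2 : (secOf K).subtype.lTensor T t = (1 : T) ⊗ₜ toSec (pm M) (𝟙 E) x :=
    (hM g hD hE).1 (by rw [ht, ext_tmul, one_smul]; rfl)
  obtain ⟨⟨k, ⟨_, n, rfl⟩⟩, hk⟩ :=
    IsLocalizedModule.surj (Submonoid.powers f) (TensorProduct.mk R T (secOf K) 1) t
  have h3 : (1 : T) ⊗ₜ[R] (f ^ n • toSec (pm M) (𝟙 E) x) = (1 : T) ⊗ₜ[R] (k : Sec (pm M) (𝟙 E)) := by
    have := congrArg ((secOf K).subtype.lTensor T) hk
    rw [Submonoid.smul_def, map_smul, h2, TensorProduct.mk_apply, LinearMap.lTensor_tmul] at this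
    rw [TensorProduct.tmul_smul]
    exact this
  obtain ⟨⟨_, m, rfl⟩, hm⟩ := IsLocalizedModule.exists_of_eq (S := Submonoid.powers f)
    (f := TensorProduct.mk R T (Sec (pm M) (𝟙 E)) 1) h3
  refine ⟨m + n, ?_⟩
  have hmem : f ^ m • (f ^ n • toSec (pm M) (𝟙 E) x) ∈ secOf K := by
    rw [show f ^ m • (f ^ n • toSec (pm M) (𝟙 E) x) = f ^ m • (k : Sec (pm M) (𝟙 E)) from hm]
    exact (secOf K).smul_mem _ k.2
  rw [← mul_smul, ← pow_add] at hmem
  change ofSec (pm M) (f ^ (m + n) • toSec (pm M) (𝟙 E) x) ∈ K at hmem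
  rw [smul_sec, op_id, CategoryTheory.Functor.map_id] at hmem
  exact hmem

end Localization

namespace SubOn

variable {M : ModEt X} {P : EtOver X → Prop}

/-- The zero submodules. -/
noncomputable def bot (M : ModEt X) (P : EtOver X → Prop) : SubOn M P where
  obj _ _ _ := ⊥
  res_mem g _ _ _ _ x hx := by rw [(Submodule.mem_bot _).1 hx, map_zero]; exact Submodule.zero_mem _
  gen g _ _ _ _ x hx := by rw [(Submodule.mem_bot _).1 hx]; exact Submodule.zero_mem _

theorem fg_bot : (bot M P).FG := fun _ _ _ => Submodule.fg_bot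

/-- Sums. -/
noncomputable def sup (N N' : SubOn M P) : SubOn M P where
  obj E hE pE := N.obj E hE pE ⊔ N'.obj E hE pE
  res_mem g hZ hE pZ pE x hx := by
    obtain ⟨a, ha, b, hb, rfl⟩ := Submodule.mem_sup.1 hx
    rw [map_add]
    exact Submodule.add_mem_sup (N.res_mem g hZ hE pZ pE a ha) (N'.res_mem g hZ hE pZ pE b hb)
  gen g hZ hE pZ pE x hx := by
    obtain ⟨a, ha, b, hb, rfl⟩ := Submodule.mem_sup.1 hx
    exact Submodule.add_mem _
      (Submodule.span_mono (Set.image_mono fun y hy => Submodule.mem_sup_left hy) (N.gen g hZ hE pZ pE a ha))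
      (Submodule.span_mono (Set.image_mono fun y hy => Submodule.mem_sup_right hy) (N'.gen g hZ hE pZ pE b hb))

theorem fg_sup {N N' : SubOn M P} (h : N.FG) (h' : N'.FG) : (N.sup N').FG :=
  fun E hE pE => (h E hE pE).sup (h' E hE pE)

theorem exists_upper {ι : Type*} (s : Finset ι) (N : ι → SubOn M P) (h : ∀ i, (N i).FG) :
    ∃ N' : SubOn M P, N'.FG ∧ ∀ i ∈ s, ∀ E hE pE, (N i).obj E hE pE ≤ N'.obj E hE pE := by
  classical
  induction s using Finset.induction_on with
  | empty => exact ⟨bot M P, fg_bot, fun i hi => absurd hi (Finset.notMem_empty i)⟩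
  | @insert a s ha ih =>
    obtain ⟨N', hN', hle⟩ := ih
    refine ⟨(N a).sup N', fg_sup (h a) hN', fun i hi E hE pE => ?_⟩
    rcases Finset.mem_insert.1 hi with rfl | hi
    · exact le_sup_left
    · exact (hle i hi E hE pE).trans le_sup_right

/-- Restriction to a smaller class. -/
noncomputable def restrict {P' : EtOver X → Prop} (N : SubOn M P) (h : ∀ E, P' E → P E) : SubOn M P' where
  obj E hE pE := N.obj E hE (h E pE)
  res_mem g hZ hE pZ pE := N.res_mem g hZ hE (h _ pZ) (h _ pE)
  gen g hZ hE pZ pE := N.gen g hZ hE (h _ pZ) (h _ pE)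

end SubOn

end Groth.Agent.H12AlgSp.SubExt
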