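import Groth.Agent.H12AlgSp.SubExt.Subobj
import Mathlib.CategoryTheory.EssentiallySmall
import Mathlib.CategoryTheory.Subobject.Basic
import Mathlib.CategoryTheory.Filtered.Final
import Mathlib.CategoryTheory.Abelian.GrothendieckCategory.Basic

/-!
A quasi-coherent module is the filtered colimit of its quasi-coherent submodules of finite type.
-/

set_option autoImplicit false
set_option backward.isDefEq.respectTransparency false
set_option linter.style.haveILetI false

universe u

open CategoryTheory CategoryTheory.Limits AlgebraicGeometry Opposite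
open AlgSp Groth.Agent.H12AlgSp Groth.Agent.H12AlgSp.BCMod Groth.Agent.H13EtMod

namespace Groth.Agent.H12AlgSp.SubExt

variable {S : Scheme.{u}} [QuasiSeparatedSpace S] (X : Space S) (hqc : IsQuasiCompactSp X.obj)
  (hqs : IsQuasiSeparatedSp X.obj) (M : ModEt X.obj) [M.IsQuasicoherent]

/-- Quasi-coherent subobjects of finite type. -/
def ftSub : ObjectProperty (Subobject M) := fun N =>
  (Subobject.underlying.obj N).IsQuasicoherent ∧ (Subobject.underlying.obj N).IsFiniteType

/-- The submodule of a finitely generated family. -/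
noncomputable def subobjOf (hM : IsBCEt M) (N : SubOn M (InSet (Set.univ : Set (Points X.obj)))) : Subobject M :=
  haveI := N.mono_incl (isDown_inSet _) hM
  Subobject.mk (N.incl (isDown_inSet _) hM)

theorem ftSub_subobjOf (hM : IsBCEt M) (N : SubOn M (InSet (Set.univ : Set (Points X.obj)))) (hN : N.FG) :
    ftSub X M (subobjOf X M hM N) := by
  haveI := N.mono_incl (isDown_inSet _) hM
  let e := Subobject.underlyingIso (N.incl (isDown_inSet _) hM)
  have h1 := N.isQuasicoherent_toMod hM
  have h2 := N.isFiniteType_toMod hM hN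
  have hq : (Subobject.underlying.obj (subobjOf X M hM N)).IsQuasicoherent :=
    (SheafOfModules.isQuasicoherent (R := OEtRing X.obj)).prop_of_iso e.symm h1
  refine ⟨hq, (H13EtMod.isFiniteType_iff hq).2 fun E hE => ?_⟩
  have : Module.Finite (OSec E) ((SheafOfModules.evaluation (OEtRing X.obj) (op E)).obj
      (N.toMod (isDown_inSet _) hM)) := (H13EtMod.isFiniteType_iff h1).1 h2 E hE
  exact Module.Finite.equiv ((((SheafOfModules.evaluation _ (op E)).mapIso e.symm)).toLinearEquiv)

theorem range_subobjOf (hM : IsBCEt M) (N : SubOn M (InSet (Set.univ : Set (Points X.obj)))) {E : EtOver X.obj}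
    (hE : IsAffine E.obj.left.left) (x : (pm M).obj (op E)) (hx : x ∈ N.obj E hE (inSet_univ E)) :
    x ∈ LinearMap.range (appE (subobjOf X M hM N).arrow E) := by
  haveI := N.mono_incl (isDown_inSet _) hM
  obtain ⟨y, rfl⟩ := (N.mem_range_incl hM hE x).2 hx
  exact factor_range (Subobject.underlyingIso_arrow (N.incl (isDown_inSet _) hM)) E y

theorem exists_upper_subobj {N N' : Subobject M} (h : ftSub X M N) (h' : ftSub X M N') :
    ∃ N'', ftSub X M N'' ∧ N ≤ N'' ∧ N' ≤ N'' := by
  have hM : IsBCEt M := (isQuasicoherent_iff_isBCEt _).1 inferInstance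
  let A := fun (L : Subobject M) (hL : ftSub X M L) =>
    SubOn.ofHom L.arrow ((isQuasicoherent_iff_isBCEt _).1 hL.1) (InSet (Set.univ : Set (Points X.obj)))
  have hA : ∀ L hL, (A L hL).FG := fun L hL => SubOn.fg_ofHom L.arrow _ ((H13EtMod.isFiniteType_iff hL.1).1 hL.2) _
  let B := (A N h).sup (A N' h')
  haveI := B.mono_incl (isDown_inSet _) hM
  refine ⟨subobjOf X M hM B, ftSub_subobjOf X M hM B (SubOn.fg_sup (hA N h) (hA N' h')), ?_, ?_⟩
  · obtain ⟨ψ, hψ⟩ := exists_factor_of_range (B.incl (isDown_inSet _) hM) N.arrow fun E hE y =>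
      (B.mem_range_incl hM hE _).2 (Submodule.mem_sup_left ⟨y, rfl⟩)
    exact Subobject.le_mk_of_comm ψ hψ
  · obtain ⟨ψ, hψ⟩ := exists_factor_of_range (B.incl (isDown_inSet _) hM) N'.arrow fun E hE y =>
      (B.mem_range_incl hM hE _).2 (Submodule.mem_sup_right ⟨y, rfl⟩)
    exact Subobject.le_mk_of_comm ψ hψ

include hqc hqs in
theorem isFiltered_and_isColimit
    (ι : (ftSub X M).ι ⋙ Subobject.underlying ⟶ (Functor.const (ftSub X M).FullSubcategory).obj M)
    (hι : ∀ N : (ftSub X M).FullSubcategory, ι.app N = N.obj.arrow) :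
    IsFiltered (ftSub X M).FullSubcategory ∧ Nonempty (IsColimit (Cocone.mk M ι)) := by
  have hM : IsBCEt M := (isQuasicoherent_iff_isBCEt _).1 inferInstance
  haveI : Nonempty (ftSub X M).FullSubcategory :=
    ⟨⟨subobjOf X M hM (SubOn.bot M _), ftSub_subobjOf X M hM _ SubOn.fg_bot⟩⟩
  haveI hsub : ∀ N N' : (ftSub X M).FullSubcategory, Subsingleton (N ⟶ N') :=
    fun _ _ => ⟨fun a b => ObjectProperty.hom_ext _ (Subsingleton.elim _ _)⟩
  haveI : IsFilteredOrEmpty (ftSub X M).FullSubcategory := ⟨fun N N' => by
    obtain ⟨L, hL, h1, h2⟩ := exists_upper_subobj X M N.2 N'.2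
    exact ⟨⟨L, hL⟩, ObjectProperty.homMk (homOfLE h1), ObjectProperty.homMk (homOfLE h2), trivial⟩,
    fun _ N' a b => ⟨N', 𝟙 _, Subsingleton.elim _ _⟩⟩
  haveI hfil : IsFiltered (ftSub X M).FullSubcategory := { }
  refine ⟨hfil, ?_⟩
  haveI := H13EtMod.isGrothendieckAbelian_modEt X.obj
  haveI : Small.{u + 1} (Subobject M) := inferInstance
  haveI : Small.{u + 1} (ftSub X M).FullSubcategory :=
    small_of_injective (f := fun N : (ftSub X M).FullSubcategory => N.obj)
      fun a b e => ObjectProperty.FullSubcategory.ext e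
  haveI : LocallySmall.{u + 1} (ftSub X M).FullSubcategory := ⟨fun N N' => small_subsingleton _⟩
  haveI : EssentiallySmall.{u + 1} (ftSub X M).FullSubcategory := essentiallySmall_of_small_of_locallySmall _
  let eq := equivSmallModel.{u + 1} (ftSub X M).FullSubcategory
  haveI : IsFiltered (SmallModel.{u + 1} (ftSub X M).FullSubcategory) := IsFiltered.of_equivalence eq
  let J := SmallModel.{u + 1} (ftSub X M).FullSubcategory
  let G := (ftSub X M).ι ⋙ Subobject.underlying
  let F := eq.inverse
  let c : Cocone G := Cocone.mk M ι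
  refine ⟨(Functor.Final.isColimitWhiskerEquiv F c).toFun ?_⟩
  haveI : HasColimitsOfShape J (ModEt X.obj) := inferInstance
  let D := F ⋙ G
  let τ : D ⟶ (Functor.const J).obj M := Functor.whiskerLeft F ι
  haveI : ∀ j, Mono (τ.app j) := fun j => by
    show Mono (ι.app (F.obj j))
    rw [hι]; infer_instance
  haveI : Mono τ := NatTrans.mono_of_mono_app _
  haveI : PreservesFiniteLimits (colim (J := J) (C := ModEt X.obj)) := inferInstance
  haveI : Mono (colimMap τ) := (colim (J := J) (C := ModEt X.obj)).map_mono τ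
  haveI : IsConnected J := IsFiltered.isConnected J
  let e : colimit ((Functor.const J).obj M) ≅ M :=
    (colimit.isColimit _).coconePointUniqueUpToIso (isColimitConstCocone J M)
  have hd : colimit.desc D (c.whisker F) = colimMap τ ≫ e.hom := colimit.hom_ext fun i => by
    refine (colimit.ι_desc _ i).trans ?_
    rw [ι_colimMap_assoc]
    exact ((congrArg (τ.app i ≫ ·) ((colimit.isColimit _).comp_coconePointUniqueUpToIso_hom
      (isColimitConstCocone J M) i)).trans (Category.comp_id _)).symm
  haveI : Mono (colimit.desc D (c.whisker F)) := by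
    rw [hd]; infer_instance
  haveI : Epi (colimit.desc D (c.whisker F)) := ⟨fun {P} p q hpq => hom_ext_affine fun E hE x => by
    obtain ⟨N, hN, hx⟩ := exists_mem X.property hqs hM hqc E hE x
    let L : (ftSub X M).FullSubcategory := ⟨subobjOf X M hM N, ftSub_subobjOf X M hM N hN⟩
    let i := eq.functor.obj L
    have hi : τ.app i ≫ p = τ.app i ≫ q := by
      have := congrArg (colimit.ι D i ≫ ·) hpq
      rw [colimit.ι_desc_assoc, colimit.ι_desc_assoc] at this
      exact this
    have hL : L.obj.arrow ≫ p = L.obj.arrow ≫ q := by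
      have h1 : G.map (eq.unitIso.app L).hom ≫ τ.app i = L.obj.arrow := by
        rw [← hι L]
        exact (ι.naturality (eq.unitIso.app L).hom).trans (Category.comp_id _)
      rw [← h1, Category.assoc, Category.assoc, hi]
    obtain ⟨z, hz⟩ := range_subobjOf X M hM N hE x hx
    change appE p E x = appE q E x
    rw [← hz]
    exact congrArg (fun φ => appE φ E z) hL⟩
  haveI : IsIso (colimit.desc D (c.whisker F)) := isIso_of_mono_of_epi _
  exact @IsColimit.ofPointIso _ _ _ _ _ _ (c.whisker F) (colimit.isColimit D) ‹IsIso (colimit.desc D (c.whisker F))›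

end Groth.Agent.H12AlgSp.SubExt
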