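import Groth.Agent.H12AlgSp.SubExt.Subobj
import Groth.Agent.H12AlgSp.IdealEt
import Groth.Agent.H13AlgSp.InductionApps

/-!
Quasi-compact opens are complements of closed subspaces of finitely generated ideals.
-/

set_option autoImplicit false
set_option backward.isDefEq.respectTransparency false
set_option linter.style.haveILetI false

universe u

open CategoryTheory CategoryTheory.Limits AlgebraicGeometry Opposite
open AlgSp Groth.Agent.H12AlgSp Groth.Agent.H12AlgSp.BCMod Groth.Agent.H13Cartier Groth.Agent.H13AlgSp Groth.Agent.H13EtMod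

namespace Groth.Agent.H12AlgSp.SubExt

variable {S : Scheme.{u}} {X : Sp S}

theorem mem_range_iff_ideal {Z : Sp S} {i : Z ⟶ X} {I : IdealEt X} (h : IsCutOutBy I i) (E : EtOver X)
    (hE : IsAffine E.obj.left.left) (e : E.obj.left.left) :
    Points.ofPt E.obj.hom e ∈ Set.range (Points.map i) ↔
      ∀ a ∈ I.ideal E hE, e ∉ E.obj.left.left.basicOpen a := by
  obtain ⟨K, ⟨fst, sq⟩, hK⟩ := exists_cutsOut_ideal h E hE
  have h1 := preimage_ofPt_range sq
  have h2 : Points.ofPt E.obj.hom e ∈ Set.range (Points.map i) ↔ e ∈ Set.range K.subschemeι :=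
    Set.ext_iff.1 h1 e
  have h3 := K.coe_support_inter ⟨⊤, isAffineOpen_top _⟩
  rw [h2, K.range_subschemeι, ← hK]
  constructor
  · intro he a ha
    have := (h3.le ⟨he, trivial⟩).1
    rw [Scheme.mem_zeroLocus_iff] at this
    exact this a ha
  · intro h
    exact (h3.ge ⟨(Scheme.mem_zeroLocus_iff _ _ _).2 h, trivial⟩).1

/-- The identification of sections of the structure sheaf with functions. -/
noncomputable abbrev upE (E : EtOver X) : Γ(E.obj.left.left, ⊤) ≃+* (OEt X).obj.obj (op E) :=
  ULift.ringEquiv.symm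

/-- An ideal sheaf as a submodule of the structure sheaf. -/
noncomputable def idealSubOn (I : IdealEt X) (hI : I.IsQCoh) :
    SubOn (unitModEt X) (InSet (Set.univ : Set (Points X))) where
  obj E hE _ := (Ideal.comap (upE E).symm.toRingHom (I.ideal E hE) : Ideal ((OEt X).obj.obj (op E)))
  res_mem {Z E} g hZ hE _ _ x hx := I.map_le g hE hZ (Ideal.mem_map_of_mem _ hx)
  gen {Z E} g hZ hE _ _ x hx := by
    have h := hI g hE hZ hx
    have key : ∀ a ∈ (I.ideal E hE).map g.hom.left.left.appTop.hom,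
        (show (pm (unitModEt X)).obj (op Z) from upE Z a) ∈ resSpan g
          {y : (pm (unitModEt X)).obj (op E) | (upE E).symm (show (OEt X).obj.obj (op E) from y) ∈ I.ideal E hE} := by
      intro a ha
      rw [Ideal.map] at ha
      induction ha using Submodule.span_induction with
      | mem a ha =>
        obtain ⟨b, hb, rfl⟩ := ha
        exact Submodule.subset_span ⟨upE E b, by
          change (upE E).symm (upE E b) ∈ I.ideal E hE
          rw [RingEquiv.symm_apply_apply]; exact hb, rfl⟩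
      | zero => rw [map_zero]; exact Submodule.zero_mem _
      | add a b _ _ ha hb => rw [map_add]; exact Submodule.add_mem _ ha hb
      | smul r a _ ha =>
        rw [smul_eq_mul, map_mul]
        exact Submodule.smul_mem _ (upE Z r) ha
    exact key _ h

/-- A submodule of the structure sheaf as an ideal sheaf. -/
noncomputable def subOnIdeal (N : SubOn (unitModEt X) (InSet (Set.univ : Set (Points X)))) : IdealEt X where
  ideal E hE := Ideal.comap (upE E).toRingHom (N.obj E hE (inSet_univ E) : Ideal ((OEt X).obj.obj (op E)))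
  map_le {E Z} g hE hZ := by
    rw [Ideal.map_le_iff_le_comap]
    intro a ha
    exact N.res_mem g hZ hE (inSet_univ Z) (inSet_univ E) _ ha

theorem isQCoh_subOnIdeal (N : SubOn (unitModEt X) (InSet (Set.univ : Set (Points X)))) :
    (subOnIdeal N).IsQCoh := by
  intro E Z g hE hZ a ha
  have h := N.gen g hZ hE (inSet_univ Z) (inSet_univ E) _ ha
  suffices ∀ z ∈ resSpan g (N.obj E hE (inSet_univ E) : Set ((pm (unitModEt X)).obj (op E))),
      (upE Z).symm (show (OEt X).obj.obj (op Z) from z) ∈ ((subOnIdeal N).ideal E hE).map g.hom.left.left.appTop.hom by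
    simpa using this _ h
  intro z hz
  induction hz using Submodule.span_induction with
  | mem z hz =>
    obtain ⟨y, hy, rfl⟩ := hz
    exact Ideal.mem_map_of_mem _ (show upE E ((upE E).symm y) ∈ _ by rw [RingEquiv.apply_symm_apply]; exact hy)
  | zero => exact (map_zero (upE Z).symm).symm ▸ Ideal.zero_mem _
  | add a b _ _ ha hb => exact (map_add (upE Z).symm a b).symm ▸ Ideal.add_mem _ ha hb
  | smul r a _ ha => exact (map_mul (upE Z).symm r a).symm ▸ Ideal.mul_mem_left _ _ ha

theorem fg_subOnIdeal (N : SubOn (unitModEt X) (InSet (Set.univ : Set (Points X)))) (hN : N.FG) (E : EtOver X)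
    (hE : IsAffine E.obj.left.left) : ((subOnIdeal N).ideal E hE).FG := by
  change (Ideal.comap (upE E).toRingHom _).FG
  rw [show Ideal.comap (upE E).toRingHom (N.obj E hE (inSet_univ E) : Ideal ((OEt X).obj.obj (op E))) =
    Ideal.map (upE E).symm.toRingHom (N.obj E hE (inSet_univ E)) from (Ideal.map_symm (upE E)).symm]
  exact Ideal.FG.map (I := (N.obj E hE (inSet_univ E) : Ideal ((OEt X).obj.obj (op E)))) (hN E hE _) _

theorem mem_range_compl_of_fg {U Z : Sp S} (j : U ⟶ X) (hX : IsAlgSpace X) (hU : IsAlgSpace U)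
    (hj : RepWith @IsOpenImmersion j) (hqc : IsQuasiCompactSp X) {I : IdealEt X}
    (hfg : ∀ (E : EtOver X) (hE : IsAffine E.obj.left.left), (I.ideal E hE).FG) {i : Z ⟶ X} (h : IsCutOutBy I i)
    (hr : Set.range (Points.map i) = (Set.range (Points.map j))ᶜ) : IsQuasiCompactSp U := by
  haveI := compactSpace_points_of_isQuasiCompactSp hqc
  obtain ⟨T, a, hT, ha, hs⟩ := exists_affine_chart hX isOpen_univ isCompact_univ
  let A := EtOver.mk a ha
  obtain ⟨G, hG⟩ : ∃ G : Finset Γ(T.left, ⊤), Ideal.span (G : Set Γ(T.left, ⊤)) = I.ideal A hT := hfg A hT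
  have hpre : Points.ofPt a ⁻¹' Set.range (Points.map j) =
      ⋃ f ∈ (G : Set Γ(T.left, ⊤)), (T.left.basicOpen f : Set T.left) := by
    ext t
    have h1 := mem_range_iff_ideal h A hT t
    rw [hr] at h1
    simp only [Set.mem_preimage, Set.mem_iUnion, exists_prop]
    constructor
    · intro ht
      by_contra hc
      refine h1.2 (fun f hf htf => ?_) ht
      rw [← hG] at hf
      have hle : (Submodule.span _ (G : Set Γ(T.left, ⊤)) : Ideal Γ(T.left, ⊤)) ≤
          Ideal.comap (T.left.presheaf.germ ⊤ t trivial).hom (IsLocalRing.maximalIdeal _) := by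
        refine Submodule.span_le.2 fun g hg => ?_
        change T.left.presheaf.germ ⊤ t trivial g ∈ IsLocalRing.maximalIdeal _
        rw [IsLocalRing.mem_maximalIdeal, mem_nonunits_iff, ← Scheme.mem_basicOpen_top]
        exact fun hgt => hc ⟨g, hg, hgt⟩
      have := hle hf
      rw [Ideal.mem_comap, IsLocalRing.mem_maximalIdeal, mem_nonunits_iff] at this
      exact this ((Scheme.mem_basicOpen_top _ _ _).1 htf)
    · rintro ⟨f, hf, htf⟩
      by_contra hc
      exact h1.1 hc f (hG.le (Ideal.subset_span hf)) htf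
  have hc : IsCompact (Points.ofPt a ⁻¹' Set.range (Points.map j)) := by
    haveI : IsAffine T.left := hT
    rw [hpre]
    exact G.finite_toSet.isCompact_biUnion fun f _ => ((isAffineOpen_top T.left).basicOpen f).isCompact
  have h2 := hc.image (Points.continuous_ofPt a)
  rw [Set.image_preimage_eq_inter_range, hs, Set.inter_univ] at h2
  haveI := mono_of_openImmersion hj
  have hemb : Topology.IsEmbedding (Points.map j) :=
    (Topology.IsOpenEmbedding.of_continuous_injective_isOpenMap (Points.continuous_map _) (injective_map_of_mono _)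
      (isOpenMap_map_of_repWith (fun _ _ k (_ : IsOpenImmersion k) => inferInstance) hj)).isEmbedding
  haveI : CompactSpace (Points U) :=
    isCompact_univ_iff.1 (hemb.isCompact_iff.2 (by rwa [Set.image_univ]))
  exact isQuasiCompactSp_of_compactSpace hU

theorem exists_fg_ideal_of_quasiCompact [QuasiSeparatedSpace S] (hX : IsAlgSpace X) (hqc : IsQuasiCompactSp X)
    (hqs : IsQuasiSeparatedSp X) {O : Set (Points X)} (hO : IsOpen O) (hOc : IsCompact O) :
    ∃ (I : IdealEt X), I.IsQCoh ∧ (∀ (E : EtOver X) (hE : IsAffine E.obj.left.left), (I.ideal E hE).FG) ∧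
      ∃ (Z : Sp S) (i : Z ⟶ X), IsAlgSpace Z ∧ IsCutOutBy I i ∧ Set.range (Points.map i) = Oᶜ := by
  classical
  obtain ⟨W, w, -, hw⟩ := exists_isRedInduced hX hO.isClosed_compl
  let J := idealOfRep hw.1.1
  have hJc : IsCutOutBy J w := ⟨hw.1, rfl⟩
  have hJ : J.IsQCoh := isQCoh_of_isCutOutBy hJc
  haveI := compactSpace_points_of_isQuasiCompactSp hqc
  obtain ⟨T, a, hT, ha, hs⟩ := exists_affine_chart hX isOpen_univ isCompact_univ
  let A := EtOver.mk a ha
  haveI : IsAffine A.obj.left.left := hT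
  have hc := isCompact_preimage_chart hX hqs hO hOc A hT
  have hcov : Points.ofPt A.obj.hom ⁻¹' O ⊆
      ⋃ f : {f // f ∈ J.ideal A hT}, (A.obj.left.left.basicOpen f.1 : Set A.obj.left.left) := by
    intro t ht
    have h1 := mem_range_iff_ideal hJc A hT t
    rw [hw.2.1] at h1
    by_contra hn
    exact h1.2 (fun f hf htf => hn (Set.mem_iUnion.2 ⟨⟨f, hf⟩, htf⟩)) ht
  obtain ⟨G, hG⟩ := hc.elim_finite_subcover _ (fun f : {f // f ∈ J.ideal A hT} => (A.obj.left.left.basicOpen f.1).2) hcov
  let hM₀ : IsBCEt (unitModEt X) := isBCMod_unit (Rsh := OEt X) (A := etAff X)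
  let NJ := idealSubOn J hJ
  let P := isDown_inSet (Set.univ : Set (Points X))
  have hMJ : IsBCEt (NJ.toMod P hM₀) := fun _ _ g hZ hE =>
    NJ.isBC_of_mem P hM₀ g hZ hE (inSet_univ _) (inSet_univ _)
  have hx : ∀ f : {f // f ∈ J.ideal A hT}, (show (pm (unitModEt X)).obj (op A) from upE A f.1) ∈ NJ.sub.obj (op A) :=
    fun f => (NJ.mem_sub_iff hT (inSet_univ A) _).2 (by
      change (upE A).symm (upE A f.1) ∈ J.ideal A hT
      rw [RingEquiv.symm_apply_apply]; exact f.2)
  choose N hN hNx using fun f : {f // f ∈ J.ideal A hT} =>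
    exists_mem hX hqs hMJ hqc A hT (⟨_, hx f⟩ : NJ.sub.obj (op A))
  obtain ⟨N₁, hN₁, hle⟩ := SubOn.exists_upper G N hN
  let ψ := N₁.incl P hMJ ≫ NJ.incl P hM₀
  let N₂ := SubOn.ofHom ψ ((isQuasicoherent_iff_isBCEt _).1 (N₁.isQuasicoherent_toMod hMJ))
    (InSet (Set.univ : Set (Points X)))
  have hN₂ : N₂.FG := SubOn.fg_ofHom ψ _
    ((H13EtMod.isFiniteType_iff (N₁.isQuasicoherent_toMod hMJ)).1 (N₁.isFiniteType_toMod hMJ hN₁)) _
  obtain ⟨Z, i, hZ, hi⟩ := exists_isCutOutBy hX _ (isQCoh_subOnIdeal N₂)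
  refine ⟨subOnIdeal N₂, isQCoh_subOnIdeal N₂, fg_subOnIdeal N₂ hN₂, Z, i, hZ, hi, ?_⟩
  ext x
  obtain ⟨t, rfl⟩ := hs.ge (Set.mem_univ x)
  rw [show Points.ofPt a t = Points.ofPt A.obj.hom t from rfl, mem_range_iff_ideal hi A hT t]
  constructor
  · intro h ht
    obtain ⟨f, hf, htf⟩ := Set.mem_iUnion₂.1 (hG ht)
    refine h f.1 ?_ htf
    obtain ⟨y, hy⟩ := (N₁.mem_range_incl hMJ hT _).2 (hle f hf A hT (inSet_univ A) (hNx f))
    exact ⟨y, congrArg Subtype.val hy⟩
  · intro ht f hf
    have h1 := mem_range_iff_ideal hJc A hT t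
    rw [hw.2.1] at h1
    refine h1.1 ht f ?_
    obtain ⟨y, hy⟩ := hf
    have h2 := (NJ.mem_sub_iff hT (inSet_univ A) _).1 ((appE (N₁.incl P hMJ) A y).2)
    have h3 : (show (pm (unitModEt X)).obj (op A) from upE A f) ∈ NJ.obj A hT (inSet_univ A) := hy ▸ h2
    change (upE A).symm (upE A f) ∈ J.ideal A hT at h3
    rwa [RingEquiv.symm_apply_apply] at h3

end Groth.Agent.H12AlgSp.SubExt
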