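import Groth.Agent.H12AlgSp.BCMod.SubSheaf
import Groth.Agent.H12AlgSp.BCMod.Descent
import Groth.Agent.H12AlgSp.EtStalk
import Groth.Agent.H13EtMod.FiniteSec

/-!
Submodules given on a class of affine objects, and their extension to the objects they cover.
-/

set_option backward.isDefEq.respectTransparency false

universe u

open CategoryTheory CategoryTheory.Limits AlgebraicGeometry Opposite
open AlgSp Groth.Agent.H12AlgSp Groth.Agent.H12AlgSp.BCMod
open scoped TensorProduct

namespace Groth.Agent.H12AlgSp.SubExt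

variable {S : Scheme.{u}} {X : Sp S}

/-- The submodule generated by a set of sections along a map. -/
noncomputable abbrev resSpan {M : ModEt X} {Z E : EtOver X} (g : Z ⟶ E) (K : Set ((pm M).obj (op E))) :
    Submodule ((OEt X).obj.obj (op Z)) ((pm M).obj (op Z)) :=
  Submodule.span _ (((pm M).map g.op).hom '' K)

theorem map_mem_resSpan {M : ModEt X} {Z E : EtOver X} (g : Z ⟶ E) (K : Set ((pm M).obj (op E)))
    {x : (pm M).obj (op E)} (hx : x ∈ Submodule.span ((OEt X).obj.obj (op E)) K) :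
    ((pm M).map g.op).hom x ∈ resSpan g K := by
  induction hx using Submodule.span_induction with
  | mem x hx => exact Submodule.subset_span ⟨x, hx, rfl⟩
  | zero => rw [map_zero]; exact Submodule.zero_mem _
  | add a b _ _ ha hb => rw [map_add]; exact Submodule.add_mem _ ha hb
  | smul r a _ ha => rw [map_smul_sec]; exact Submodule.smul_mem _ _ ha

theorem resSpan_le {M : ModEt X} {Z E : EtOver X} (g : Z ⟶ E) (K : Set ((pm M).obj (op E)))
    (L : Submodule ((OEt X).obj.obj (op Z)) ((pm M).obj (op Z)))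
    (h : ∀ x ∈ K, ((pm M).map g.op).hom x ∈ L) : resSpan g K ≤ L :=
  Submodule.span_le.2 (by rintro _ ⟨x, hx, rfl⟩; exact h x hx)

theorem map_resSpan_mem {M : ModEt X} {W Z E : EtOver X} (h : W ⟶ Z) (g : Z ⟶ E) (K : Set ((pm M).obj (op E)))
    {x : (pm M).obj (op Z)} (hx : x ∈ resSpan g K) : ((pm M).map h.op).hom x ∈ resSpan (h ≫ g) K := by
  refine resSpan_le h _ (resSpan (h ≫ g) K) ?_ (map_mem_resSpan h _ hx)
  rintro _ ⟨y, hy, rfl⟩
  exact Submodule.subset_span ⟨y, hy, (map_comp_sec g h y).symm⟩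

theorem tmul_eq_zero_of_one_tmul {R A Q : Type*} [CommRing R] [CommRing A] [Algebra R A] [AddCommGroup Q] [Module R Q]
    {q : Q} (h : (1 : A) ⊗ₜ[R] q = 0) (b : A) : b ⊗ₜ[R] q = 0 := by
  have := congrArg (b • ·) h
  simpa [TensorProduct.smul_tmul'] using this

/-- A submodule of sections as a submodule of `Sec`. -/
noncomputable def secOf {M : ModEt X} {E : EtOver X} (K : Submodule ((OEt X).obj.obj (op E)) ((pm M).obj (op E))) :
    Submodule ((OEt X).obj.obj (op E)) (Sec (pm M) (𝟙 E)) where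
  carrier := {y | ofSec (pm M) y ∈ K}
  add_mem' ha hb := K.add_mem ha hb
  zero_mem' := K.zero_mem
  smul_mem' r y hy := by
    change ofSec (pm M) (r • y) ∈ K
    rw [smul_sec, op_id, CategoryTheory.Functor.map_id]
    exact K.smul_mem r hy

/-- Membership in a submodule of sections over an affine object is local. -/
theorem mem_span_of_local {M : ModEt X} (hM : IsBCEt M) {E : EtOver X} (hE : IsAffine E.obj.left.left)
    (K : Submodule ((OEt X).obj.obj (op E)) ((pm M).obj (op E))) (U : AffCov (etAff X) E)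
    (x : (pm M).obj (op E)) (hx : ∀ i, ((pm M).map (U.z i).op).hom x ∈ resSpan (U.z i) K) : x ∈ K := by
  let N₀ := secOf K
  let x' : Sec (pm M) (𝟙 E) := toSec (pm M) (𝟙 E) x
  have hflat := U.flat_z
  have h0 : (⟨N₀.mkQ x', Submodule.mem_span_singleton_self _⟩ :
      Submodule.span ((OEt X).obj.obj (op E)) {N₀.mkQ x'}) = 0 := by
    refine subsingleton_of_forall_tensor (fun i => RingOf (OEt X).obj (U.z i)) U.hsurj (fun i z => ?_) _
    refine Module.Flat.lTensor_preserves_injective_linearMap (M := RingOf (OEt X).obj (U.z i))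
      (Submodule.span ((OEt X).obj.obj (op E)) {N₀.mkQ x'}).subtype Subtype.val_injective ?_
    rw [map_zero]
    induction z with
    | zero => exact map_zero _
    | add p q hp hq => rw [map_add, hp, hq, add_zero]
    | tmul b n =>
      obtain ⟨r, hr⟩ := Submodule.mem_span_singleton.1 n.2
      rw [LinearMap.lTensor_tmul, Submodule.subtype_apply, ← hr, ← TensorProduct.smul_tmul]
      have h1 : ((1 : RingOf (OEt X).obj (U.z i)) ⊗ₜ[(OEt X).obj.obj (op E)] N₀.mkQ x') = 0 := by
        obtain ⟨t, ht⟩ := span_mem_range (U.z i) N₀ (((pm M).map (U.z i).op).hom x)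
          (Submodule.span_mono (Set.image_mono (t := {y | toSec (pm M) (𝟙 E) y ∈ N₀}) fun y hy => hy) (hx i))
        have h2 : N₀.subtype.lTensor _ t = (1 : RingOf (OEt X).obj (U.z i)) ⊗ₜ x' :=
          (hM (U.z i) (U.affZ i) hE).1 (by rw [ht, ext_tmul, one_smul]; rfl)
        have h3 := congrArg (N₀.mkQ.lTensor (RingOf (OEt X).obj (U.z i))) h2
        rw [← LinearMap.lTensor_comp_apply, show N₀.mkQ.comp N₀.subtype = 0 from
          LinearMap.ext fun y => (Submodule.Quotient.mk_eq_zero _).2 y.2, LinearMap.lTensor_zero,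
          LinearMap.zero_apply, LinearMap.lTensor_tmul] at h3
        exact h3.symm
      exact tmul_eq_zero_of_one_tmul h1 (r • b)
  exact (Submodule.Quotient.mk_eq_zero N₀).1 (congrArg Subtype.val h0)

/-- Membership in a submodule, checked at every point. -/
theorem mem_span_of_forall_point {M : ModEt X} (hM : IsBCEt M) {E : EtOver X} (hE : IsAffine E.obj.left.left)
    (K : Submodule ((OEt X).obj.obj (op E)) ((pm M).obj (op E))) (x : (pm M).obj (op E))
    (h : ∀ e : E.obj.left.left, ∃ (W : EtOver X) (g : W ⟶ E) (w : W.obj.left.left),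
      g.hom.left.left w = e ∧ ((pm M).map g.op).hom x ∈ resSpan g K) : x ∈ K := by
  let R : Sieve E :=
    { arrows := fun V g => ((pm M).map g.op).hom x ∈ resSpan g K
      downward_closed := fun {V W g} hg a => by
        rw [← map_comp_sec]
        exact map_resSpan_mem a g _ hg }
  obtain ⟨U, hU⟩ := exists_affCov (A := etAff X) hE (mem_etTop_of_forall_point R fun e => by
    obtain ⟨W, g, w, hw, hg⟩ := h e
    exact ⟨W, g, w, hg, hw⟩)
  exact mem_span_of_local hM hE K U x hU

/-- Submodules of sections over the affine objects of a class, compatible with and generated by restriction. -/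
structure SubOn (M : ModEt X) (P : EtOver X → Prop) where
  obj : ∀ (E : EtOver X), IsAffine E.obj.left.left → P E → Submodule ((OEt X).obj.obj (op E)) ((pm M).obj (op E))
  res_mem : ∀ {Z E : EtOver X} (g : Z ⟶ E) (hZ : IsAffine Z.obj.left.left) (hE : IsAffine E.obj.left.left)
    (pZ : P Z) (pE : P E), ∀ x ∈ obj E hE pE, ((pm M).map g.op).hom x ∈ obj Z hZ pZ
  gen : ∀ {Z E : EtOver X} (g : Z ⟶ E) (hZ : IsAffine Z.obj.left.left) (hE : IsAffine E.obj.left.left)
    (pZ : P Z) (pE : P E), ∀ x ∈ obj Z hZ pZ, x ∈ resSpan g (obj E hE pE)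

/-- A class closed under passing to sources of maps. -/
def IsDown (P : EtOver X → Prop) : Prop := ∀ ⦃Z E : EtOver X⦄, (Z ⟶ E) → P E → P Z

/-- Every point lifts to an affine object of the class. -/
def CovBy (P : EtOver X → Prop) (E : EtOver X) : Prop :=
  ∀ e : E.obj.left.left, ∃ (Z : EtOver X) (g : Z ⟶ E) (z : Z.obj.left.left),
    IsAffine Z.obj.left.left ∧ P Z ∧ g.hom.left.left z = e

namespace SubOn

variable {M : ModEt X} {P P' : EtOver X → Prop} (N : SubOn M P)

/-- Finitely generated values. -/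
def FG : Prop := ∀ E hE pE, (N.obj E hE pE).FG

theorem exists_cover (hP : IsDown P) {E : EtOver X} (hE : IsAffine E.obj.left.left) (hc : CovBy P E)
    {R : Sieve E} (hR : R ∈ etTop X E) :
    ∃ U : AffCov (etAff X) E, ∀ i, R.arrows (U.z i) ∧ P (U.Z i) := by
  let R' : Sieve E :=
    { arrows := fun V _ => P V
      downward_closed := fun {V W g} hg a => hP a hg }
  obtain ⟨U, hU⟩ := exists_affCov (A := etAff X) hE ((etTop X).intersection_covering hR
    (mem_etTop_of_forall_point R' fun e => by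
      obtain ⟨Z, g, z, -, hZ, hz⟩ := hc e
      exact ⟨Z, g, z, hZ, hz⟩))
  exact ⟨U, hU⟩

/-- The sections whose restrictions to the class belong to the given submodules. -/
noncomputable def sub : (pm M).Submodule where
  obj Y :=
    { carrier := {x | ∀ (E : EtOver X) (hE : IsAffine E.obj.left.left) (pE : P E) (h : E ⟶ Y.unop),
        ((pm M).map h.op).hom x ∈ N.obj E hE pE}
      add_mem' := fun ha hb E hE pE h => by
        rw [map_add]
        exact (N.obj E hE pE).add_mem (ha E hE pE h) (hb E hE pE h)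
      zero_mem' := fun E hE pE h => by
        rw [map_zero]
        exact (N.obj E hE pE).zero_mem
      smul_mem' := fun r x hx E hE pE h => by
        rw [map_smul_sec h r x]
        exact (N.obj E hE pE).smul_mem _ (hx E hE pE h) }
  map {Y Y'} f := fun x hx E hE pE h => by
    have := hx E hE pE (h ≫ f.unop)
    rw [← map_comp_sec] at this
    exact this

theorem mem_sub_iff {E : EtOver X} (hE : IsAffine E.obj.left.left) (pE : P E) (x : (pm M).obj (op E)) :
    x ∈ N.sub.obj (op E) ↔ x ∈ N.obj E hE pE := by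
  refine ⟨fun h => ?_, fun h F hF pF g => N.res_mem g hF hE pF pE x h⟩
  have h1 := h E hE pE (𝟙 E)
  rw [op_id, (pm M).map_id] at h1
  exact h1

theorem mem_of_local (hM : IsBCEt M) {E : EtOver X} (hE : IsAffine E.obj.left.left) (pE : P E)
    (U : AffCov (etAff X) E) (hU : ∀ i, P (U.Z i)) (x : (pm M).obj (op E))
    (hx : ∀ i, ((pm M).map (U.z i).op).hom x ∈ N.obj (U.Z i) (U.affZ i) (hU i)) : x ∈ N.obj E hE pE :=
  mem_span_of_local hM hE _ U x fun i => N.gen (U.z i) (U.affZ i) hE (hU i) pE _ (hx i)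

variable (hP : IsDown P) (hM : IsBCEt M)

include hP hM in
theorem mem_sub_of_cover {Y : EtOver X} {R : Sieve Y} (hR : R ∈ etTop X Y) (x : (pm M).obj (op Y))
    (hx : ∀ ⦃V : EtOver X⦄ (f : V ⟶ Y), R f → ((pm M).map f.op).hom x ∈ N.sub.obj (op V)) :
    x ∈ N.sub.obj (op Y) := fun E hE pE h => by
  obtain ⟨U, hU⟩ := exists_affCov (A := etAff X) hE ((etTop X).pullback_stable h hR)
  refine N.mem_of_local hM hE pE U (fun i => hP (U.z i) pE) _ fun i => ?_
  rw [map_comp_sec]
  exact (N.mem_sub_iff (U.affZ i) _ _).1 (hx _ (hU i))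

include hP hM in
theorem isSheaf : Presheaf.IsSheaf (etTop X) N.sub.toPresheafOfModules.presheaf := by
  rw [Presheaf.isSheaf_iff_isSheaf_forget (etTop X) _ (CategoryTheory.forget AddCommGrpCat.{u + 1}),
    isSheaf_iff_isSheaf_of_type]
  intro Y R hR x hx
  let xM : Presieve.FamilyOfElements ((pm M).presheaf ⋙ CategoryTheory.forget _) R.arrows :=
    fun V f hf => (x f hf).1
  have hxM : xM.Compatible := fun Y₁ Y₂ Z g₁ g₂ f₁ f₂ h₁ h₂ e => congrArg Subtype.val (hx g₁ g₂ h₁ h₂ e)
  obtain ⟨s, hs, hu⟩ := isSheaf_types (P := pm M) M.isSheaf R hR xM hxM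
  have hmem : s ∈ N.sub.obj (op Y) := N.mem_sub_of_cover hP hM hR s fun V f hf => by
    exact (congrArg (· ∈ N.sub.obj (op V)) (hs f hf)).mpr (x f hf).2
  refine ⟨⟨s, hmem⟩, fun V f hf => Subtype.ext (hs f hf), fun t ht => Subtype.ext ?_⟩
  exact hu t.1 fun V f hf => congrArg Subtype.val (ht f hf)

/-- The subsheaf. -/
noncomputable def toMod : ModEt X := ⟨N.sub.toPresheafOfModules, N.isSheaf hP hM⟩

/-- The inclusion of the subsheaf. -/
noncomputable def incl : N.toMod hP hM ⟶ M := ⟨N.sub.ι⟩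

theorem mono_incl : Mono (N.incl hP hM) :=
  (SheafOfModules.forget _).mono_of_mono_map (show Mono N.sub.ι from inferInstance)

theorem isBC_of_mem {Z E : EtOver X} (g : Z ⟶ E) (hZ : IsAffine Z.obj.left.left)
    (hE : IsAffine E.obj.left.left) (pZ : P Z) (pE : P E) : IsBC (pm (N.toMod hP hM)) g := by
  have hflat : Module.Flat ((OEt X).obj.obj (op E)) (RingOf (OEt X).obj g) := (etAff X).flat g hE hZ
  let φ : pm (N.toMod hP hM) ⟶ pm M := (N.incl hP hM).val
  have hn : ∀ t, ext (pm M) g ((secMap φ (𝟙 E)).lTensor _ t) = secMap φ g (ext (pm (N.toMod hP hM)) g t) :=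
    fun t => congrArg (fun m => m.hom t) ((extNat (OEt X).obj g).naturality φ)
  have hinj : ∀ V : EtOver X, Function.Injective (secMap φ (𝟙 V)) := fun V => Subtype.val_injective
  refine ⟨fun s t h => Module.Flat.lTensor_preserves_injective_linearMap (M := RingOf (OEt X).obj g) _ (hinj E)
    ((hM g hZ hE).1 (by rw [hn, hn, h])), fun y => ?_⟩
  let N₀ := secOf (N.obj E hE pE)
  have hy : (ofSec (pm (N.toMod hP hM)) y).1 ∈ Submodule.span ((OEt X).obj.obj (op Z))
      (((pm M).map g.op).hom '' (N.obj E hE pE)) :=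
    N.gen g hZ hE pZ pE _ ((N.mem_sub_iff hZ pZ _).1 (ofSec (pm (N.toMod hP hM)) y).2)
  obtain ⟨t, ht⟩ := span_mem_range g N₀ _ hy
  let j : N₀ →ₗ[(OEt X).obj.obj (op E)] Sec (pm (N.toMod hP hM)) (𝟙 E) :=
    { toFun := fun n => toSec (pm (N.toMod hP hM)) (𝟙 E)
        (⟨ofSec (pm M) n.1, (N.mem_sub_iff hE pE _).2 n.2⟩ : N.sub.obj (op E))
      map_add' := fun _ _ => rfl
      map_smul' := fun _ _ => rfl }
  refine ⟨j.lTensor _ t, Subtype.ext (?_ : secMap φ g _ = secMap φ g y)⟩
  rw [← hn, ← LinearMap.lTensor_comp_apply]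
  exact ht

theorem isBC_of_covBy {Z E : EtOver X} (g : Z ⟶ E) (hZ : IsAffine Z.obj.left.left)
    (hE : IsAffine E.obj.left.left) (hc : CovBy P E) : IsBC (pm (N.toMod hP hM)) g := by
  obtain ⟨U, hU⟩ := exists_cover hP hE hc ((etTop X).top_mem E)
  exact isBC_of_cover (N.toMod hP hM).isSheaf g hZ U fun i W' W r hW' hW a =>
    N.isBC_of_mem hP hM r hW' hW (hP (r ≫ a) (hU i).2) (hP a (hU i).2)

/-- Extension to a class of covered objects. -/
noncomputable def extend (hc : ∀ E, IsAffine E.obj.left.left → P' E → CovBy P E) : SubOn M P' where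
  obj E _ _ := N.sub.obj (op E)
  res_mem g _ _ _ _ x hx := N.sub.map g.op hx
  gen {Z E} g hZ hE _ pE x hx := by
    obtain ⟨t, ht⟩ := (N.isBC_of_covBy hP hM g hZ hE (hc E hE pE)).2
      (toSec (pm (N.toMod hP hM)) g (⟨x, hx⟩ : N.sub.obj (op Z)))
    have key : ∀ t, (show N.sub.obj (op Z) from ofSec (pm (N.toMod hP hM)) (ext (pm (N.toMod hP hM)) g t)).1 ∈
        resSpan (M := M) g {y | y ∈ N.sub.obj (op E)} := by
      intro t
      induction t with
      | zero => rw [map_zero]; exact Submodule.zero_mem _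
      | add p q hp hq => rw [map_add]; exact Submodule.add_mem _ hp hq
      | tmul b n =>
        rw [ext_tmul]
        refine Submodule.smul_mem _ (show (OEt X).obj.obj (op Z) from b) (Submodule.subset_span ?_)
        exact ⟨_, (ofSec (pm (N.toMod hP hM)) n).2, rfl⟩
    have := key t
    rw [ht] at this
    exact this

theorem extend_obj (hc : ∀ E, IsAffine E.obj.left.left → P' E → CovBy P E) (E : EtOver X)
    (hE : IsAffine E.obj.left.left) (pE : P' E) (pE' : P E) :
    (N.extend hP hM hc).obj E hE pE = N.obj E hE pE' :=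
  Submodule.ext fun x => N.mem_sub_iff hE pE' x

theorem extend_fg (hN : N.FG) (hc : ∀ E, IsAffine E.obj.left.left → P' E → CovBy P E) :
    (N.extend hP hM hc).FG := by
  intro E hE pE
  obtain ⟨U, hU⟩ := exists_cover hP hE (hc E hE pE) ((etTop X).top_mem E)
  refine Module.Finite.iff_fg.1 ?_
  have hfin : ∀ i, Module.Finite ((OEt X).obj.obj (op (U.Z i))) ((pm (N.toMod hP hM)).obj (op (U.Z i))) := by
    intro i
    have e : N.sub.obj (op (U.Z i)) = N.obj (U.Z i) (U.affZ i) (hU i).2 :=
      Submodule.ext fun x => N.mem_sub_iff _ _ x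
    exact Module.Finite.iff_fg.2 (e ▸ hN _ _ (hU i).2 : (N.sub.obj (op (U.Z i))).FG)
  have hflat := U.flat_z
  have : Module.Finite ((OEt X).obj.obj (op E)) (Sec (pm (N.toMod hP hM)) (𝟙 E)) := by
    refine H13EtMod.finite_of_family (fun i => RingOf (OEt X).obj (U.z i)) U.hsurj fun i => ?_
    have : Module.Finite (RingOf (OEt X).obj (U.z i)) (Sec (pm (N.toMod hP hM)) (U.z i)) := hfin i
    exact Module.Finite.equiv (H13EtMod.extEquiv
      (N.isBC_of_covBy hP hM (U.z i) (U.affZ i) hE (hc E hE pE))).symm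
  exact Module.Finite.equiv (H13EtMod.idEquiv (pm (N.toMod hP hM)) E).symm

end SubOn

end Groth.Agent.H12AlgSp.SubExt
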