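import Groth.Agent.H12AlgSp.SubExt.Union
import Groth.Agent.H12AlgSp.QC
import Groth.Agent.H12AlgSp.QSPullback

/-!
Extension of finitely generated submodules, and exhaustion by them, on quasi-compact quasi-separated spaces.
-/

set_option backward.isDefEq.respectTransparency false

universe u

open CategoryTheory CategoryTheory.Limits AlgebraicGeometry Opposite
open AlgSp Groth.Agent.H12AlgSp Groth.Agent.H12AlgSp.BCMod Groth.Agent.H13AlgSp

namespace Groth.Agent.H12AlgSp.SubExt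

variable {S : Scheme.{u}} [QuasiSeparatedSpace S] {X : Sp S} (hX : IsAlgSpace X) (hXqs : IsQuasiSeparatedSp X)
  {M : ModEt X} (hM : IsBCEt M)

include hX hXqs in
/-- The preimage of a quasi-compact open in an affine chart is quasi-compact. -/
theorem isCompact_preimage_chart {O : Set (Points X)} (hO : IsOpen O) (hOc : IsCompact O) (A : EtOver X)
    (hA : IsAffine A.obj.left.left) : IsCompact (Points.ofPt A.obj.hom ⁻¹' O) := by
  obtain ⟨T, a, hT, ha, hr⟩ := exists_affine_chart hX hO hOc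
  obtain ⟨R, r, t', sq⟩ := ha.1 A.obj.hom
  obtain ⟨t, rfl⟩ := (yon S).map_surjective t'
  haveI : QuasiCompact T.hom := inferInstance
  haveI : CompactSpace ↥(pullback T.hom A.obj.left.hom) :=
    QuasiCompact.compactSpace_of_compactSpace (pullback.snd T.hom A.obj.left.hom)
  haveI := compactSpace_of_isPullback hXqs sq
  rw [← hr, ← range_map_yon a, preimage_ofPt_range sq]
  exact isCompact_range r.left.continuous

include hX hXqs hM in
/-- Extension across an elementary distinguished square, with prescribed sections on the affine piece. -/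
theorem exists_step {O O' : Set (Points X)} {k : openSub O ⟶ openSub O'} {A : Over S}
    {a : (yon S).obj A ⟶ openSub O'} (hO : IsOpen O) (hOc : IsCompact O) (hO' : IsOpen O')
    (hk : k ≫ openSubι O' = openSubι O) (hA : IsAffine A.left) (hsq : IsElemDistSq k a)
    (N : SubOn M (InSet O)) (hN : N.FG)
    (G : Set ((pm M).obj (op (EtOver.mk (a ≫ openSubι O') (repWith_etale_chart hO' hsq))))) (hG : G.Finite)
    (hGN : ∀ g ∈ G, ∀ (Z : EtOver X) (hZ : IsAffine Z.obj.left.left) (hZO : InSet O Z)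
      (b : Z ⟶ EtOver.mk (a ≫ openSubι O') (repWith_etale_chart hO' hsq)),
      ((pm M).map b.op).hom g ∈ N.obj Z hZ hZO) :
    ∃ N' : SubOn M (InSet O'), N'.FG ∧
      (∀ (Z : EtOver X) (hZ : IsAffine Z.obj.left.left) (hZO : InSet O Z) (hZO' : InSet O' Z),
        N'.obj Z hZ hZO' = N.obj Z hZ hZO) ∧
      ∀ (Z : EtOver X) (hZ : IsAffine Z.obj.left.left) (hZO' : InSet O' Z)
        (b : Z ⟶ EtOver.mk (a ≫ openSubι O') (repWith_etale_chart hO' hsq)),
        resSpan b G ≤ N'.obj Z hZ hZO' := by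
  obtain ⟨P, hP, hGP, hPN⟩ := exists_chart_submodule hM hO N hN (A := EtOver.mk (a ≫ openSubι O') (repWith_etale_chart hO' hsq))
    hA (isCompact_preimage_chart hX hXqs hO hOc _ hA) G hG hGN
  have hdiag := fun Z b b' z hz => exists_equalizing hX hO' hk hsq Z b b' z hz
  let U := unionSub hM hO N P hPN hdiag
  have hc : ∀ E : EtOver X, IsAffine E.obj.left.left → InSet O' E →
      CovBy (InUnion O (EtOver.mk (a ≫ openSubι O') (repWith_etale_chart hO' hsq))) E :=
    fun E _ h => covBy_inUnion hX hO hO' hk hsq h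
  refine ⟨U.extend (isDown_inUnion _ _) hM hc,
    U.extend_fg (isDown_inUnion _ _) hM (unionSub_fg hM hO N P hPN hdiag hN hP) hc,
    fun Z hZ hZO hZO' => ?_, fun Z hZ hZO' b => ?_⟩
  · rw [U.extend_obj (isDown_inUnion _ _) hM hc Z hZ hZO' (Or.inl hZO)]
    exact unionObj_eq_of_inSet N P hPN hZ hZO
  · rw [U.extend_obj (isDown_inUnion _ _) hM hc Z hZ hZO' (Or.inr ⟨b⟩)]
    change _ ≤ unionObj N P Z hZ
    rw [unionObj_eq_of_hom hM hO N P hPN hdiag hZ b]
    exact Submodule.span_mono (Set.image_mono hGP)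

include hX hXqs hM in
/-- A finitely generated submodule on a quasi-compact open extends. -/
theorem exists_extension (hXqc : IsQuasiCompactSp X) {O₀ : Set (Points X)} (hO₀ : IsOpen O₀)
    (hO₀c : IsCompact O₀) (N₀ : SubOn M (InSet O₀)) (hN₀ : N₀.FG) :
    ∃ N : SubOn M (InSet (Set.univ : Set (Points X))), N.FG ∧
      ∀ (Z : EtOver X) (hZ : IsAffine Z.obj.left.left) (hZO : InSet O₀ Z),
        N.obj Z hZ (inSet_univ Z) = N₀.obj Z hZ hZO := by
  let Q : Set (Points X) → Prop := fun O => ∃ N : SubOn M (InSet O), N.FG ∧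
      ∀ (Z : EtOver X) (hZ : IsAffine Z.obj.left.left) (hZO : InSet O₀ Z) (h : InSet O Z),
        N.obj Z hZ h = N₀.obj Z hZ hZO
  obtain ⟨N, h1, h2⟩ := open_induction hX hXqc hXqs hO₀ hO₀c Q ⟨N₀, hN₀, fun _ _ _ _ => rfl⟩
    (fun O O' k A a hO hOc hO' _ hle hk hA hsq ⟨N, hN, he⟩ => by
      obtain ⟨N', hN', h1, -⟩ := exists_step hX hXqs hM hO hOc hO' hk hA hsq N hN ∅ Set.finite_empty
        (fun g hg => absurd hg (Set.notMem_empty g))
      exact ⟨N', hN', fun Z hZ hZO h => (h1 Z hZ (fun z => hle (hZO z)) h).trans (he Z hZ hZO _)⟩)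
  exact ⟨N, h1, fun Z hZ hZO => h2 Z hZ hZO _⟩

include hM in
theorem exists_finite_gens {Z A : EtOver X} (hZ : IsAffine Z.obj.left.left) (hA : IsAffine A.obj.left.left)
    (b : Z ⟶ A) (x : (pm M).obj (op Z)) :
    ∃ G : Finset ((pm M).obj (op A)), x ∈ resSpan b (G : Set ((pm M).obj (op A))) := by
  classical
  obtain ⟨t, ht⟩ := (hM b hZ hA).2 (toSec (pm M) b x)
  have key : ∀ t, ∃ G : Finset ((pm M).obj (op A)),
      ofSec (pm M) (ext (pm M) b t) ∈ resSpan b (G : Set ((pm M).obj (op A))) := by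
    intro t
    induction t with
    | zero => exact ⟨∅, by rw [map_zero]; exact Submodule.zero_mem _⟩
    | add p q hp hq =>
      obtain ⟨G₁, h₁⟩ := hp
      obtain ⟨G₂, h₂⟩ := hq
      refine ⟨G₁ ∪ G₂, ?_⟩
      rw [map_add]
      exact Submodule.add_mem _
        (Submodule.span_mono (Set.image_mono (Finset.coe_subset.2 Finset.subset_union_left)) h₁)
        (Submodule.span_mono (Set.image_mono (Finset.coe_subset.2 Finset.subset_union_right)) h₂)
    | tmul c z =>
      refine ⟨{ofSec (pm M) z}, ?_⟩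
      rw [ext_tmul]
      exact Submodule.smul_mem _ (show (OEt X).obj.obj (op Z) from c)
        (Submodule.subset_span ⟨_, Finset.mem_singleton_self _, rfl⟩)
  obtain ⟨G, hG⟩ := key t
  rw [ht] at hG
  exact ⟨G, hG⟩

include hX hXqs hM in
/-- Every section over an affine object lies in a finitely generated submodule. -/
theorem exists_mem (hXqc : IsQuasiCompactSp X) (E : EtOver X) (hE : IsAffine E.obj.left.left)
    (x : (pm M).obj (op E)) :
    ∃ N : SubOn M (InSet (Set.univ : Set (Points X))), N.FG ∧ x ∈ N.obj E hE (inSet_univ E) := by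
  classical
  let Q : Set (Points X) → Prop := fun O => ∀ (E : EtOver X) (hE : IsAffine E.obj.left.left) (h : InSet O E)
    (x : (pm M).obj (op E)), ∃ N : SubOn M (InSet O), N.FG ∧ x ∈ N.obj E hE h
  refine open_induction hX hXqc hXqs isOpen_empty isCompact_empty Q ?_ ?_ E hE (inSet_univ E) x
  · intro E hE h x
    exact ⟨SubOn.bot M _, SubOn.fg_bot, mem_span_of_forall_point hM hE _ x fun e => (h e).elim⟩
  intro O O' k A a hO hOc hO' _ _ hk hA hsq ih E hE hEO' x
  let eA := EtOver.mk (a ≫ openSubι O') (repWith_etale_chart hO' hsq)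
  have hPd := isDown_inUnion O eA
  obtain ⟨U, hU⟩ := SubOn.exists_cover hPd hE (covBy_inUnion hX hO hO' hk hsq hEO') ((etTop X).top_mem E)
  have := Fintype.ofFinite U.κ
  have hgen : ∀ i, ∃ G : Finset ((pm M).obj (op eA)), ¬ InSet O (U.Z i) →
      ∃ b : U.Z i ⟶ eA, ((pm M).map (U.z i).op).hom x ∈ resSpan b (G : Set ((pm M).obj (op eA))) := by
    intro i
    rcases (hU i).2 with h | ⟨⟨b⟩⟩
    · exact ⟨∅, fun hn => absurd h hn⟩
    · obtain ⟨G, hG⟩ := exists_finite_gens hM (U.affZ i) hA b (((pm M).map (U.z i).op).hom x)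
      exact ⟨G, fun _ => ⟨b, hG⟩⟩
  choose G hG using hgen
  let Gs : Finset ((pm M).obj (op eA)) := Finset.univ.biUnion G
  haveI : IsAffine eA.obj.left.left := hA
  obtain ⟨s, hs, hse⟩ := (isCompact_and_isOpen_iff_finite_and_eq_biUnion_basicOpen
    (U := Points.ofPt eA.obj.hom ⁻¹' O)).1
      ⟨isCompact_preimage_chart hX hXqs hO hOc eA hA, hO.preimage (Points.continuous_ofPt _)⟩
  have := hs.to_subtype
  have := Fintype.ofFinite s
  let D : s → EtOver X := fun j => etOpen eA (eA.obj.left.left.basicOpen j.1)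
  have hD : ∀ j, IsAffine (D j).obj.left.left := fun j => (isAffineOpen_top eA.obj.left.left).basicOpen j.1
  have hDO : ∀ j, InSet O (D j) := fun j e => by
    rw [ofPt_comp (etOpenι eA _) e]
    exact hse.ge (Set.mem_iUnion₂.2 ⟨j.1, j.2, e.2⟩)
  choose N₁ hN₁ hN₁x using fun i : {i : U.κ // InSet O (U.Z i)} =>
    ih (U.Z i.1) (U.affZ i.1) i.2 (((pm M).map (U.z i.1).op).hom x)
  let d : ∀ j, D j ⟶ eA := fun j => etOpenι eA (eA.obj.left.left.basicOpen j.1)
  have hex : ∀ (g : {g // g ∈ Gs}) (j : s), ∃ N : SubOn M (InSet O), N.FG ∧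
      ((pm M).map (d j).op).hom g.1 ∈ N.obj (D j) (hD j) (hDO j) :=
    fun g j => ih (D j) (hD j) (hDO j) (((pm M).map (d j).op).hom g.1)
  choose N₂ hN₂ hN₂g using hex
  obtain ⟨N, hN, hle⟩ := SubOn.exists_upper (Finset.univ) (Sum.elim N₁ fun p : {g // g ∈ Gs} × s => N₂ p.1 p.2)
    (fun q => Sum.rec (fun i => hN₁ i) (fun p => hN₂ p.1 p.2) q)
  have hGN : ∀ g ∈ (Gs : Set ((pm M).obj (op eA))), ∀ (Z : EtOver X) (hZ : IsAffine Z.obj.left.left)
      (hZO : InSet O Z) (b : Z ⟶ eA), ((pm M).map b.op).hom g ∈ N.obj Z hZ hZO := by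
    intro g hg Z hZ hZO b
    refine mem_span_of_basic hM hZ hZO b (fun j : s => (ULift.up j.1 : (OEt X).obj.obj (op eA))) (fun z hz => ?_)
      _ _ fun j W hW hWO m l hl => ?_
    · obtain ⟨j, hj, hzj⟩ := Set.mem_iUnion₂.1 (hse.le hz)
      exact ⟨⟨j, hj⟩, hzj⟩
    · refine N.gen m hW hZ hWO hZO _ ?_
      rw [map_comp_sec, ← hl, ← map_comp_sec]
      exact N.res_mem l hW (hD j) hWO (hDO j) _
        (hle (Sum.inr ⟨⟨g, hg⟩, j⟩) (Finset.mem_univ _) _ _ _ (hN₂g ⟨g, hg⟩ j))
  obtain ⟨N', hN', h1, h2⟩ := exists_step hX hXqs hM hO hOc hO' hk hA hsq N hN (Gs : Set _)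
    Gs.finite_toSet hGN
  refine ⟨N', hN', N'.mem_of_local hM hE hEO' U (fun i => isDown_inSet O' (U.z i) hEO') x fun i => ?_⟩
  by_cases hi : InSet O (U.Z i)
  · rw [h1 (U.Z i) (U.affZ i) hi]
    exact hle (Sum.inl ⟨i, hi⟩) (Finset.mem_univ _) _ _ _ (hN₁x ⟨i, hi⟩)
  · obtain ⟨b, hb⟩ := hG i hi
    exact h2 (U.Z i) (U.affZ i) _ b (Submodule.span_mono (Set.image_mono
      (Finset.coe_subset.2 (Finset.subset_biUnion_of_mem G (Finset.mem_univ i)))) hb)

end Groth.Agent.H12AlgSp.SubExt
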