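import Groth.Agent.H12AlgSp.SubExt.Subobj
import Groth.Agent.H12AlgSp.EtRestrictMod
import Groth.Agent.H13AlgSp.InductionApps

/-!
Submodules of finite type on an open subspace extend to the space.
-/

set_option autoImplicit false
set_option backward.isDefEq.respectTransparency false
set_option linter.style.haveILetI false

universe u

open CategoryTheory CategoryTheory.Limits AlgebraicGeometry Opposite
open AlgSp Groth.Agent.H12AlgSp Groth.Agent.H12AlgSp.BCMod Groth.Agent.H13EtMod Groth.Agent.H13AlgSp
  Groth.Agent.H12AlgSp.EtRes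

namespace Groth.Agent.H12AlgSp.SubExt

variable {S : Scheme.{u}} {U X : Space S} (j : U ⟶ X) (hj : RepWith @IsOpenImmersion j.hom)
  (hf : IsEtaleMor j.hom) (F : ModEt X.obj)

/-- Restriction to the open subspace. -/
noncomputable abbrev resU : ModEt U.obj := (SheafOfModules.pushforward.{u + 1} (resHom j hf)).obj F

include hj in
theorem exists_lift_inSet {E : EtOver X.obj} (h : InSet (Set.range (Points.map j.hom)) E) :
    ∃ V : EtOver U.obj, ∃ a : (EtOver.postcomp j.hom hf).obj V ⟶ E, ∃ a' : E ⟶ (EtOver.postcomp j.hom hf).obj V,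
      a' ≫ a = 𝟙 E ∧ (IsAffine E.obj.left.left → IsAffine V.obj.left.left) := by
  obtain ⟨l, hl⟩ := exists_factor_open hj E.obj.hom (by
    rw [range_map_yon]; exact Set.range_subset_iff.2 h)
  haveI := mono_of_openImmersion hj
  have he : RepWith @Etale l := repWith_openImmersion_of_fac l _ hl E.property
  refine ⟨EtOver.mk l he, EtOver.homMk (𝟙 E.obj.left) ?_, EtOver.homMk (𝟙 E.obj.left) ?_,
    EtOver.hom_ext _ _ (Category.id_comp _), id⟩
  · change (yon S).map (𝟙 E.obj.left) ≫ E.obj.hom = l ≫ j.hom
    rw [CategoryTheory.Functor.map_id]; exact (Category.id_comp _).trans hl.symm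
  · change (yon S).map (𝟙 E.obj.left) ≫ l ≫ j.hom = E.obj.hom
    rw [CategoryTheory.Functor.map_id]; exact (Category.id_comp _).trans hl

include hj in
theorem exists_map_eq {V V' : EtOver U.obj}
    (c : (EtOver.postcomp j.hom hf).obj V ⟶ (EtOver.postcomp j.hom hf).obj V') :
    ∃ d : V ⟶ V', (EtOver.postcomp j.hom hf).map d = c := by
  haveI := mono_of_openImmersion hj
  refine ⟨EtOver.homMk c.hom.left ?_, EtOver.hom_ext _ _ rfl⟩
  rw [← cancel_mono j.hom, Category.assoc]
  exact EtOver.w c

theorem inSet_postcomp (V : EtOver U.obj) :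
    InSet (Set.range (Points.map j.hom)) ((EtOver.postcomp j.hom hf).obj V) :=
  fun v => ⟨Points.ofPt V.obj.hom v, Points.map_ofPt _ _ _⟩

variable {G : ModEt U.obj} (φ : G ⟶ resU j hf F)

/-- The sections of the submodule on objects over the open. -/
noncomputable def openObj (E : EtOver X.obj) : Submodule ((OEt X.obj).obj.obj (op E)) ((pm F).obj (op E)) where
  carrier := {x | ∀ (V : EtOver U.obj) (_ : IsAffine V.obj.left.left)
    (c : (EtOver.postcomp j.hom hf).obj V ⟶ E),
      (show (pm (resU j hf F)).obj (op V) from ((pm F).map c.op).hom x) ∈ LinearMap.range (appE φ V)}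
  add_mem' ha hb V hV c := by
    rw [map_add]
    exact Submodule.add_mem _ (ha V hV c) (hb V hV c)
  zero_mem' V hV c := by
    rw [map_zero]
    exact Submodule.zero_mem _
  smul_mem' r x hx V hV c := by
    rw [map_smul_sec]
    exact Submodule.smul_mem _ _ (hx V hV c)

include hj in
theorem mem_openObj_postcomp (V : EtOver U.obj) (hV : IsAffine V.obj.left.left)
    (x : (pm F).obj (op ((EtOver.postcomp j.hom hf).obj V))) :
    x ∈ openObj j hf F φ ((EtOver.postcomp j.hom hf).obj V) ↔
      (show (pm (resU j hf F)).obj (op V) from x) ∈ LinearMap.range (appE φ V) := by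
  constructor
  · intro h
    have := h V hV (𝟙 _)
    rw [op_id, (pm F).map_id] at this
    exact this
  · rintro ⟨y, hy⟩ V' hV' c
    obtain ⟨d, rfl⟩ := exists_map_eq j hj hf c
    refine ⟨((pm G).map d.op).hom y, ?_⟩
    refine (PresheafOfModules.naturality_apply φ.val d.op y).trans ?_
    exact congrArg ((pm (resU j hf F)).map d.op).hom hy

/-- The submodule as data on the objects over the open. -/
noncomputable def openSubOn (hG : IsBCEt G) : SubOn F (InSet (Set.range (Points.map j.hom))) where
  obj E _ _ := openObj j hf F φ E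
  res_mem g _ _ _ _ x hx V hV c := by
    rw [map_comp_sec]
    exact hx V hV (c ≫ g)
  gen {Z E} g hZ hE pZ pE x hx := by
    obtain ⟨VE, aE, aE', eE, hVE⟩ := exists_lift_inSet j hj hf pE
    obtain ⟨VZ, aZ, aZ', eZ, hVZ⟩ := exists_lift_inSet j hj hf pZ
    obtain ⟨d, hd⟩ := exists_map_eq j hj hf (aZ ≫ g ≫ aE')
    have h1 := (SubOn.ofHom φ hG (fun _ => True)).gen d (hVZ hZ) (hVE hE) trivial trivial _ (hx VZ (hVZ hZ) aZ)
    have h2 : ((pm F).map aZ.op).hom x ∈ resSpan ((EtOver.postcomp j.hom hf).map d)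
        {y | y ∈ openObj j hf F φ ((EtOver.postcomp j.hom hf).obj VE)} :=
      Submodule.span_mono (Set.image_mono fun y hy => (mem_openObj_postcomp j hj hf F φ VE (hVE hE) y).2 hy) h1
    have h3 := map_resSpan_mem aZ' _ _ h2
    rw [map_comp_sec, eZ, op_id, (pm F).map_id] at h3
    refine resSpan_le _ _ _ (fun y hy => ?_) h3
    have h4 : ((pm F).map aE'.op).hom y ∈ openObj j hf F φ E := fun V hV c => by
      rw [map_comp_sec]; exact hy V hV (c ≫ aE')
    refine Submodule.subset_span ⟨_, h4, ?_⟩
    rw [map_comp_sec, hd, reassoc_of% eZ]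

theorem fg_openSubOn (hG : IsBCEt G)
    (hfin : ∀ V : EtOver U.obj, IsAffine V.obj.left.left → Module.Finite (OSec V) ((pm G).obj (op V))) :
    (openSubOn j hj hf F φ hG).FG := by
  intro E hE pE
  classical
  obtain ⟨V, a, a', e, hV⟩ := exists_lift_inSet j hj hf pE
  obtain ⟨T, hT⟩ := SubOn.fg_ofHom φ hG hfin (fun _ => True) V (hV hE) trivial
  refine ⟨T.image fun t => ((pm F).map a'.op).hom (show (pm F).obj (op ((EtOver.postcomp j.hom hf).obj V)) from t),
    le_antisymm ?_ ?_⟩
  · refine Submodule.span_le.2 ?_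
    intro x hx
    obtain ⟨t, ht, rfl⟩ := Finset.mem_image.1 (Finset.mem_coe.1 hx)
    have htm : (show (pm F).obj (op ((EtOver.postcomp j.hom hf).obj V)) from t) ∈
        openObj j hf F φ ((EtOver.postcomp j.hom hf).obj V) :=
      (mem_openObj_postcomp j hj hf F φ V (hV hE) _).2 (hT.le (Submodule.subset_span ht))
    intro V' hV' c
    rw [map_comp_sec]
    exact htm V' hV' (c ≫ a')
  · intro x hx
    rw [Finset.coe_image]
    have h1 : (show (pm (resU j hf F)).obj (op V) from ((pm F).map a.op).hom x) ∈ Submodule.span _ (T : Set _) :=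
      hT.ge (hx V (hV hE) a)
    let T' : Set ((pm F).obj (op ((EtOver.postcomp j.hom hf).obj V))) := show Set ((pm (resU j hf F)).obj (op V)) from (T : Set _)
    have h2 := map_mem_resSpan (M := F) a' T' h1
    rw [map_comp_sec, e, op_id, (pm F).map_id] at h2
    exact h2

include hj in
theorem exists_submodule_extending [QuasiSeparatedSpace S] (hqc : IsQuasiCompactSp X.obj)
    (hqs : IsQuasiSeparatedSp X.obj) (hUc : IsQuasiCompactSp U.obj) [F.IsQuasicoherent] [G.IsQuasicoherent]
    [G.IsFiniteType] [Mono φ] :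
    ∃ (G' : ModEt X.obj) (g' : G' ⟶ F), Mono g' ∧ G'.IsQuasicoherent ∧ G'.IsFiniteType ∧
      ∃ e : resU j hf G' ≅ G, e.hom ≫ φ = (SheafOfModules.pushforward.{u + 1} (resHom j hf)).map g' := by
  have hM : IsBCEt F := (isQuasicoherent_iff_isBCEt _).1 inferInstance
  have hG : IsBCEt G := (isQuasicoherent_iff_isBCEt _).1 inferInstance
  haveI := compactSpace_points_of_isQuasiCompactSp hUc
  have hO : IsOpen (Set.range (Points.map j.hom)) := isOpen_range_openImmersion hj
  obtain ⟨N, hN, hres⟩ := exists_extension X.property hqs hM hqc hO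
    (isCompact_range (Points.continuous_map j.hom)) (openSubOn j hj hf F φ hG)
    (fg_openSubOn j hj hf F φ hG ((H13EtMod.isFiniteType_iff inferInstance).1 inferInstance))
  let P := isDown_inSet (Set.univ : Set (Points X.obj))
  haveI := N.mono_incl P hM
  let g' := N.incl P hM
  let r := (SheafOfModules.pushforward.{u + 1} (resHom j hf)).map g'
  haveI : Mono r := by
    haveI := EtRes.preservesFiniteLimits_res j hf
    exact Functor.map_mono _ g'
  have key : ∀ (V : EtOver U.obj) (hV : IsAffine V.obj.left.left) (x : (pm (resU j hf F)).obj (op V)),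
      x ∈ LinearMap.range (appE r V) ↔ x ∈ LinearMap.range (appE φ V) := by
    intro V hV x
    have hV' : IsAffine ((EtOver.postcomp j.hom hf).obj V).obj.left.left := hV
    refine Iff.trans ?_ (mem_openObj_postcomp j hj hf F φ V hV x)
    have h1 := N.mem_range_incl hM hV' x
    rw [hres _ hV' (inSet_postcomp j hf V)] at h1
    exact h1
  obtain ⟨ψ, hψ⟩ := exists_factor_of_range φ r fun V hV y => (key V hV _).1 ⟨y, rfl⟩
  obtain ⟨χ, hχ⟩ := exists_factor_of_range r φ fun V hV y => (key V hV _).2 ⟨y, rfl⟩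
  exact ⟨N.toMod P hM, g', inferInstance, N.isQuasicoherent_toMod hM, N.isFiniteType_toMod hM hN,
    ⟨ψ, χ, by rw [← cancel_mono r, Category.assoc, hχ, hψ, Category.id_comp],
      by rw [← cancel_mono φ, Category.assoc, hψ, hχ, Category.id_comp]⟩, hψ⟩

end Groth.Agent.H12AlgSp.SubExt
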