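import Groth.Agent.H12AlgSp.SubExt.Basic

/-!
Extending finitely generated submodules across an affine object.
-/

set_option backward.isDefEq.respectTransparency false

universe u

open CategoryTheory CategoryTheory.Limits AlgebraicGeometry Opposite
open AlgSp Groth.Agent.H12AlgSp Groth.Agent.H12AlgSp.BCMod
open scoped TensorProduct

namespace Groth.Agent.H12AlgSp.SubExt

variable {S : Scheme.{u}} {X : Sp S} {M : ModEt X}

theorem resSpan_resSpan_le {Z V E : EtOver X} (a : Z ⟶ V) (b : V ⟶ E) (K : Set ((pm M).obj (op E))) :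
    resSpan a (resSpan b K : Set ((pm M).obj (op V))) ≤ resSpan (a ≫ b) K :=
  resSpan_le a _ _ fun _ hx => map_resSpan_mem a b K hx

theorem resSpan_comp_le {Z V E : EtOver X} (a : Z ⟶ V) (b : V ⟶ E) (K : Set ((pm M).obj (op E))) :
    resSpan (a ≫ b) K ≤ resSpan a (resSpan b K : Set ((pm M).obj (op V))) := by
  refine resSpan_le _ _ _ fun x hx => ?_
  rw [← map_comp_sec]
  exact Submodule.subset_span ⟨_, Submodule.subset_span ⟨x, hx, rfl⟩, rfl⟩

variable (hM : IsBCEt M) {O : Set (Points X)} (hO : IsOpen O) (N : SubOn M (InSet O)) (hN : N.FG)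
  {A : EtOver X} (hA : IsAffine A.obj.left.left) (hc : IsCompact (Points.ofPt A.obj.hom ⁻¹' O))

include hM in
theorem mem_span_of_basic {Z : EtOver X} (hZ : IsAffine Z.obj.left.left) (hZO : InSet O Z) (b : Z ⟶ A)
    {ι : Type*} (f : ι → (OEt X).obj.obj (op A))
    (hcov : ∀ a : A.obj.left.left, Points.ofPt A.obj.hom a ∈ O → ∃ i, a ∈ A.obj.left.left.basicOpen (f i).down)
    (K : Submodule ((OEt X).obj.obj (op Z)) ((pm M).obj (op Z))) (x : (pm M).obj (op Z))
    (h : ∀ i (W : EtOver X) (hW : IsAffine W.obj.left.left) (hWO : InSet O W) (g : W ⟶ Z)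
      (l : W ⟶ etOpen A (A.obj.left.left.basicOpen (f i).down)),
      l ≫ etOpenι A _ = g ≫ b → ((pm M).map g.op).hom x ∈ resSpan g K) : x ∈ K := by
  refine mem_span_of_forall_point hM hZ K x fun z => ?_
  obtain ⟨i, hi⟩ := hcov (b.hom.left.left z) (ofPt_comp b z ▸ hZO z)
  obtain ⟨W, g, w, hW, hw, hWV⟩ := exists_affine_etOpen z (b.hom.left.left ⁻¹ᵁ A.obj.left.left.basicOpen (f i).down) hi
  obtain ⟨l, hl⟩ := exists_lift_etOpen (g ≫ b) (A.obj.left.left.basicOpen (f i).down) hWV
  exact ⟨W, g, w, hw, h i W hW (isDown_inSet O g hZO) g l hl⟩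

include hM hO hN hc hA in
/-- A finitely generated submodule of the sections over the affine object inducing the given one. -/
theorem exists_chart_submodule (G : Set ((pm M).obj (op A))) (hG : G.Finite)
    (hGN : ∀ g ∈ G, ∀ (Z : EtOver X) (hZ : IsAffine Z.obj.left.left) (hZO : InSet O Z) (b : Z ⟶ A),
      ((pm M).map b.op).hom g ∈ N.obj Z hZ hZO) :
    ∃ P : Submodule ((OEt X).obj.obj (op A)) ((pm M).obj (op A)), P.FG ∧ G ⊆ P ∧
      ∀ (Z : EtOver X) (hZ : IsAffine Z.obj.left.left) (hZO : InSet O Z) (b : Z ⟶ A),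
        resSpan b (P : Set ((pm M).obj (op A))) = N.obj Z hZ hZO := by
  classical
  have := hA
  obtain ⟨s, hs, hse⟩ := (isCompact_and_isOpen_iff_finite_and_eq_biUnion_basicOpen
    (U := Points.ofPt A.obj.hom ⁻¹' O)).1 ⟨hc, hO.preimage (Points.continuous_ofPt _)⟩
  have := hs.to_subtype
  have := Fintype.ofFinite s
  let f : s → (OEt X).obj.obj (op A) := fun i => ULift.up i.1
  let D : s → EtOver X := fun i => etOpen A (A.obj.left.left.basicOpen i.1)
  let d : ∀ i, D i ⟶ A := fun i => etOpenι A _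
  have hD : ∀ i, IsAffine (D i).obj.left.left := fun i => (isAffineOpen_top A.obj.left.left).basicOpen i.1
  have hDO : ∀ i, InSet O (D i) := fun i e => by
    rw [ofPt_comp (d i) e]
    exact hse.ge (Set.mem_iUnion₂.2 ⟨i.1, i.2, e.2⟩)
  have hcov : ∀ a : A.obj.left.left, Points.ofPt A.obj.hom a ∈ O →
      ∃ i : s, a ∈ A.obj.left.left.basicOpen (f i).down := fun a ha => by
    obtain ⟨i, hi, hai⟩ := Set.mem_iUnion₂.1 (hse.le ha)
    exact ⟨⟨i, hi⟩, hai⟩
  choose T hT using fun i => hN (D i) (hD i) (hDO i)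
  have key : ∀ i, ∀ y ∈ N.obj (D i) (hD i) (hDO i), ∃ x : (pm M).obj (op A),
      (∀ j, ((pm M).map (d j).op).hom x ∈ N.obj (D j) (hD j) (hDO j)) ∧
        y ∈ resSpan (d i) ({x} : Set ((pm M).obj (op A))) := by
    intro i y hy
    obtain ⟨n, x, hx⟩ := exists_pow_smul_eq (f i) hM hA y
    have hj : ∀ j, ∃ m : ℕ, ((OEt X).obj.map (d j).op).hom (f i) ^ m • ((pm M).map (d j).op).hom x ∈
        N.obj (D j) (hD j) (hDO j) := by
      intro j
      let fj := ((OEt X).obj.map (d j).op).hom (f i)
      refine exists_pow_smul_mem fj hM (hD j) _ _ ?_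
      let g := etOpenι (D j) ((D j).obj.left.left.basicOpen fj.down)
      have hg : IsAffine (etOpen (D j) ((D j).obj.left.left.basicOpen fj.down)).obj.left.left :=
        (isAffineOpen_top (D j).obj.left.left).basicOpen fj.down
      obtain ⟨l, hl⟩ := exists_lift_etOpen (g ≫ d j) (A.obj.left.left.basicOpen i.1) fun w => by
        change ((g.hom.left.left ≫ (d j).hom.left.left) w) ∈ A.obj.left.left.basicOpen i.1
        rw [Scheme.Hom.comp_apply]
        have h := w.2
        change _ ∈ (D j).obj.left.left.basicOpen ((d j).hom.left.left.appTop i.1) at h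
        rw [← Scheme.preimage_basicOpen_top] at h
        exact h
      refine N.gen g hg (hD j) (isDown_inSet O g (hDO j)) (hDO j) _ ?_
      rw [map_comp_sec, ← hl, ← map_comp_sec, hx]
      exact N.res_mem l hg (hD i) (isDown_inSet O g (hDO j)) (hDO i) _ (Submodule.smul_mem _ _ hy)
    choose m hm using hj
    refine ⟨f i ^ (Finset.univ.sup m) • x, fun j => ?_, ?_⟩
    · obtain ⟨q, hq⟩ := Nat.exists_eq_add_of_le (Finset.le_sup (f := m) (Finset.mem_univ j))
      rw [map_smul_sec, map_pow, hq, pow_add, mul_comm, mul_smul]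
      exact Submodule.smul_mem _ _ (hm j)
    · have hu : IsUnit (((OEt X).obj.map (d i).op).hom (f i)) := isUnit_OEt_map_open A (f i)
      obtain ⟨v, hv⟩ := ((hu.pow (Finset.univ.sup m)).mul (hu.pow n))
      have : y = (v⁻¹ : ((OEt X).obj.obj (op (D i)))ˣ).1 •
          ((pm M).map (d i).op).hom (f i ^ (Finset.univ.sup m) • x) := by
        rw [map_smul_sec, hx, map_pow, map_pow, smul_smul, smul_smul, mul_assoc, ← hv, Units.inv_mul, one_smul]
      rw [this]
      exact Submodule.smul_mem _ _ (Submodule.subset_span ⟨_, rfl, rfl⟩)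
  choose x hxN hxy using key
  let G' : Set ((pm M).obj (op A)) := ⋃ i : s, Set.range fun y : T i => x i y.1 (by
    rw [← hT i]; exact Submodule.subset_span y.2)
  have hG' : G'.Finite := Set.finite_iUnion fun i => Set.finite_range _
  refine ⟨Submodule.span _ (G ∪ G'), ⟨(hG.union hG').toFinset, by rw [Set.Finite.coe_toFinset]⟩,
    fun g hg => Submodule.subset_span (Or.inl hg), fun Z hZ hZO b => le_antisymm ?_ fun y hy => ?_⟩
  · refine resSpan_le b _ _ fun p hp => ?_
    induction hp using Submodule.span_induction with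
    | mem p hp =>
      rcases hp with hp | hp
      · exact hGN p hp Z hZ hZO b
      · obtain ⟨i, y, rfl⟩ := Set.mem_iUnion.1 hp
        refine mem_span_of_basic hM hZ hZO b f hcov _ _ fun j W hW hWO g l hl => ?_
        refine N.gen g hW hZ hWO hZO _ ?_
        rw [map_comp_sec, ← hl, ← map_comp_sec]
        exact N.res_mem l hW (hD j) hWO (hDO j) _ (hxN i _ _ j)
    | zero => rw [map_zero]; exact Submodule.zero_mem _
    | add p q _ _ hp hq => rw [map_add]; exact Submodule.add_mem _ hp hq
    | smul r p _ hp => rw [map_smul_sec]; exact Submodule.smul_mem _ _ hp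
  · refine mem_span_of_basic hM hZ hZO b f hcov _ _ fun j W hW hWO g l hl => ?_
    have h1 := N.gen l hW (hD j) hWO (hDO j) _ (N.res_mem g hW hZ hWO hZO y hy)
    have h2 : (N.obj (D j) (hD j) (hDO j) : Set ((pm M).obj (op (D j)))) ⊆
        resSpan (d j) (Submodule.span ((OEt X).obj.obj (op A)) (G ∪ G') : Set ((pm M).obj (op A))) := by
      change N.obj (D j) (hD j) (hDO j) ≤ _
      rw [← hT j, Submodule.span_le]
      intro t ht
      have htm : t ∈ N.obj (D j) (hD j) (hDO j) := by rw [← hT j]; exact Submodule.subset_span ht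
      refine Submodule.span_mono (Set.image_mono ?_) (hxy j t htm)
      rintro _ rfl
      exact Submodule.subset_span (Or.inr (Set.mem_iUnion.2 ⟨j, ⟨t, ht⟩, rfl⟩))
    have h3 := resSpan_resSpan_le l (d j) _ (Submodule.span_mono (Set.image_mono h2) h1)
    rw [hl] at h3
    exact resSpan_comp_le g b _ h3

end Groth.Agent.H12AlgSp.SubExt
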