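import Groth.Agent.H12AlgSp.SubExt.Main
import Groth.Agent.H13EtMod.Coh
import Groth.Agent.H13EtMod.ModEtGroth
import Groth.Agent.H12AlgSp.BCMod.Coherator

/-!
Submodules on classes of affine objects and subobjects of finite type.
-/

set_option backward.isDefEq.respectTransparency false

universe u

open CategoryTheory CategoryTheory.Limits AlgebraicGeometry Opposite
open AlgSp Groth.Agent.H12AlgSp Groth.Agent.H12AlgSp.BCMod Groth.Agent.H13EtMod

namespace Groth.Agent.H12AlgSp.SubExt

variable {S : Scheme.{u}} {X : Sp S} {M : ModEt X}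

/-- The image of a morphism from a quasi-coherent module, on a class of affine objects. -/
noncomputable def SubOn.ofHom {G : ModEt X} (φ : G ⟶ M) (hG : IsBCEt G) (P : EtOver X → Prop) : SubOn M P where
  obj E _ _ := LinearMap.range (appE φ E)
  res_mem {Z E} g _ _ _ _ x hx := by
    obtain ⟨y, rfl⟩ := hx
    exact ⟨((pm G).map g.op).hom y, PresheafOfModules.naturality_apply φ.val g.op y⟩
  gen {Z E} g hZ hE _ _ x hx := by
    obtain ⟨y, rfl⟩ := hx
    obtain ⟨t, ht⟩ := (hG g hZ hE).2 (toSec (pm G) g y)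
    have key : ∀ t, appE φ Z (ofSec (pm G) (ext (pm G) g t)) ∈
        resSpan g (LinearMap.range (appE φ E) : Set ((pm M).obj (op E))) := by
      intro t
      induction t with
      | zero => rw [map_zero]; exact (map_zero (appE φ Z)).symm ▸ Submodule.zero_mem _
      | add p q hp hq =>
        rw [map_add]
        exact (map_add (appE φ Z) (ofSec (pm G) (ext (pm G) g p)) (ofSec (pm G) (ext (pm G) g q))).symm ▸
          Submodule.add_mem _ hp hq
      | tmul c z =>
        rw [ext_tmul]
        refine (map_smul (appE φ Z) (show (OEt X).obj.obj (op Z) from c) _).symm ▸ Submodule.smul_mem _ _ ?_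
        exact Submodule.subset_span ⟨appE φ E (ofSec (pm G) z), ⟨_, rfl⟩,
          (PresheafOfModules.naturality_apply φ.val g.op (ofSec (pm G) z)).symm⟩
    have := key t
    rw [ht] at this
    exact this

theorem SubOn.fg_ofHom {G : ModEt X} (φ : G ⟶ M) (hG : IsBCEt G)
    (hfin : ∀ E : EtOver X, IsAffine E.obj.left.left → Module.Finite (OSec E) ((pm G).obj (op E)))
    (P : EtOver X → Prop) : (SubOn.ofHom φ hG P).FG := fun E hE _ => by
  have := hfin E hE
  show (LinearMap.range (appE φ E)).FG
  rw [LinearMap.range_eq_map]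
  exact Module.Finite.fg_top.map _

namespace SubOn

variable (N : SubOn M (InSet (Set.univ : Set (Points X)))) (hM : IsBCEt M)

theorem isQuasicoherent_toMod : (N.toMod (isDown_inSet _) hM).IsQuasicoherent :=
  (isQuasicoherent_iff_isBCEt _).2 fun _ _ g hZ hE =>
    N.isBC_of_mem (isDown_inSet _) hM g hZ hE (inSet_univ _) (inSet_univ _)

theorem isFiniteType_toMod (hN : N.FG) : (N.toMod (isDown_inSet _) hM).IsFiniteType :=
  (H13EtMod.isFiniteType_iff (N.isQuasicoherent_toMod hM)).2 fun E hE => by
    have e : N.sub.obj (op E) = N.obj E hE (inSet_univ E) :=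
      Submodule.ext fun x => N.mem_sub_iff hE _ x
    exact Module.Finite.iff_fg.2 (e ▸ hN E hE _ : (N.sub.obj (op E)).FG)

theorem mem_range_incl {E : EtOver X} (hE : IsAffine E.obj.left.left) (x : (pm M).obj (op E)) :
    x ∈ LinearMap.range (appE (N.incl (isDown_inSet _) hM) E) ↔ x ∈ N.obj E hE (inSet_univ E) := by
  refine ⟨fun ⟨y, hy⟩ => hy ▸ (N.mem_sub_iff hE _ _).1 y.2, fun hx => ?_⟩
  exact ⟨(⟨x, (N.mem_sub_iff hE _ x).2 hx⟩ : N.sub.obj (op E)), rfl⟩

end SubOn

/-- A morphism factors through a monomorphism when it does so on sections over affine objects. -/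
theorem exists_factor_of_range {F G : ModEt X} (i : F ⟶ M) [Mono i] (φ : G ⟶ M)
    (h : ∀ (E : EtOver X), IsAffine E.obj.left.left → ∀ y, appE φ E y ∈ LinearMap.range (appE i E)) :
    ∃ ψ : G ⟶ F, ψ ≫ i = φ := by
  let K : ShortComplex (ModEt X) := ShortComplex.mk i (cokernel.π i) (cokernel.condition i)
  have hK : K.ShortExact := { exact := ShortComplex.exact_of_g_is_cokernel _ (cokernelIsCokernel _) }
  have e : φ ≫ cokernel.π i = 0 := hom_ext_affine fun E hE y => by
    obtain ⟨z, hz⟩ := h E hE y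
    exact ((exact_shortExact (Rsh := OEt _) hK E).2 (appE φ E y)).2 ⟨z, hz⟩
  exact ⟨Abelian.monoLift i φ e, Abelian.monoLift_comp _ _ _⟩

theorem factor_range {F G : ModEt X} {i : F ⟶ M} {φ : G ⟶ M} {ψ : G ⟶ F} (e : ψ ≫ i = φ) (E : EtOver X)
    (y : (pm G).obj (op E)) : appE φ E y ∈ LinearMap.range (appE i E) :=
  ⟨appE ψ E y, by subst e; rfl⟩

end Groth.Agent.H12AlgSp.SubExt
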