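import Groth.Agent.H12AlgSp.SubExt.Step
import Groth.Agent.H13AlgSp.DistSq
import Groth.Agent.H13AlgSp.SepStratQS
import Groth.Agent.H13AlgSp.InductionPrinciple
import Groth.Agent.H13EtMod.Coh
import Groth.Agent.H12AlgSp.QSApps

/-!
Finitely generated submodules on an open of a space together with an affine etale neighbourhood of the rest.
-/

set_option backward.isDefEq.respectTransparency false

universe u

open CategoryTheory CategoryTheory.Limits AlgebraicGeometry Opposite
open AlgSp Groth.Agent.H12AlgSp Groth.Agent.H12AlgSp.BCMod Groth.Agent.H13AlgSp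

namespace Groth.Agent.H12AlgSp.SubExt

variable {S : Scheme.{u}} {X : Sp S} {M : ModEt X} (hM : IsBCEt M) {O : Set (Points X)} (hO : IsOpen O)
  (N : SubOn M (InSet O)) {A : EtOver X} (P : Submodule ((OEt X).obj.obj (op A)) ((pm M).obj (op A)))

/-- Objects over the open or mapping to the chart. -/
def InUnion (O : Set (Points X)) (A : EtOver X) (E : EtOver X) : Prop := InSet O E ∨ Nonempty (E ⟶ A)

theorem isDown_inUnion (O : Set (Points X)) (A : EtOver X) : IsDown (InUnion O A) :=
  fun {Z E} g h => h.imp (isDown_inSet O g) (fun ⟨b⟩ => ⟨g ≫ b⟩)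

variable (hPN : ∀ (Z : EtOver X) (hZ : IsAffine Z.obj.left.left) (hZO : InSet O Z) (b : Z ⟶ A),
    resSpan b (P : Set ((pm M).obj (op A))) = N.obj Z hZ hZO)
  (hdiag : ∀ (Z : EtOver X) (b b' : Z ⟶ A) (z : Z.obj.left.left), Points.ofPt Z.obj.hom z ∉ O →
    ∃ (W : EtOver X) (g : W ⟶ Z) (w : W.obj.left.left), g.hom.left.left w = z ∧ g ≫ b = g ≫ b')

include hM hO hPN hdiag in
theorem resSpan_eq_of_two {Z : EtOver X} (hZ : IsAffine Z.obj.left.left) (b b' : Z ⟶ A) :
    resSpan b (P : Set ((pm M).obj (op A))) ≤ resSpan b' (P : Set ((pm M).obj (op A))) := by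
  intro x hx
  refine mem_span_of_forall_point hM hZ _ x fun z => ?_
  by_cases hz : Points.ofPt Z.obj.hom z ∈ O
  · obtain ⟨W, g, w, hW, hw, hWO⟩ := exists_affine_etOpen (E := Z) z
      ⟨Points.ofPt Z.obj.hom ⁻¹' O, hO.preimage (Points.continuous_ofPt _)⟩ hz
    have hWI : InSet O W := fun e => ofPt_comp g e ▸ hWO e
    refine ⟨W, g, w, hw, resSpan_comp_le g b' _ ?_⟩
    rw [hPN W hW hWI (g ≫ b'), ← hPN W hW hWI (g ≫ b)]
    exact map_resSpan_mem g b _ hx
  · obtain ⟨W, g, w, hw, e⟩ := hdiag Z b b' z hz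
    refine ⟨W, g, w, hw, resSpan_comp_le g b' _ ?_⟩
    rw [← e]
    exact map_resSpan_mem g b _ hx

/-- The sections over an object of the union. -/
noncomputable def unionObj (E : EtOver X) (hE : IsAffine E.obj.left.left) :
    Submodule ((OEt X).obj.obj (op E)) ((pm M).obj (op E)) :=
  (⨅ h : InSet O E, N.obj E hE h) ⊓ ⨅ b : E ⟶ A, resSpan b (P : Set ((pm M).obj (op A)))

include hPN in
theorem unionObj_eq_of_inSet {E : EtOver X} (hE : IsAffine E.obj.left.left) (h : InSet O E) :
    unionObj N P E hE = N.obj E hE h :=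
  le_antisymm (inf_le_left.trans (iInf_le _ h))
    (le_inf (le_iInf fun _ => le_rfl) (le_iInf fun b => (hPN E hE h b).ge))

include hM hO hPN hdiag in
theorem unionObj_eq_of_hom {E : EtOver X} (hE : IsAffine E.obj.left.left) (b : E ⟶ A) :
    unionObj N P E hE = resSpan b (P : Set ((pm M).obj (op A))) :=
  le_antisymm (inf_le_right.trans (iInf_le _ b))
    (le_inf (le_iInf fun h => (hPN E hE h b).le)
      (le_iInf fun b' => resSpan_eq_of_two hM hO N P hPN hdiag hE b b'))

/-- The submodule on the union. -/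
noncomputable def unionSub : SubOn M (InUnion O A) where
  obj E hE _ := unionObj N P E hE
  res_mem {Z E} g hZ hE pZ pE x hx := by
    rcases pE with h | ⟨⟨b⟩⟩
    · rw [unionObj_eq_of_inSet N P hPN hE h] at hx
      rw [unionObj_eq_of_inSet N P hPN hZ (isDown_inSet O g h)]
      exact N.res_mem g hZ hE _ h x hx
    · rw [unionObj_eq_of_hom hM hO N P hPN hdiag hE b] at hx
      rw [unionObj_eq_of_hom hM hO N P hPN hdiag hZ (g ≫ b)]
      exact map_resSpan_mem g b _ hx
  gen {Z E} g hZ hE pZ pE x hx := by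
    rcases pE with h | ⟨⟨b⟩⟩
    · rw [unionObj_eq_of_inSet N P hPN hZ (isDown_inSet O g h)] at hx
      rw [unionObj_eq_of_inSet N P hPN hE h]
      exact N.gen g hZ hE _ h x hx
    · rw [unionObj_eq_of_hom hM hO N P hPN hdiag hZ (g ≫ b)] at hx
      rw [unionObj_eq_of_hom hM hO N P hPN hdiag hE b]
      exact resSpan_comp_le g b _ hx

theorem unionSub_fg (hN : N.FG) (hP : P.FG) : (unionSub hM hO N P hPN hdiag).FG := by
  intro E hE pE
  change (unionObj N P E hE).FG
  rcases pE with h | ⟨⟨b⟩⟩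
  · rw [unionObj_eq_of_inSet N P hPN hE h]; exact hN E hE h
  · rw [unionObj_eq_of_hom hM hO N P hPN hdiag hE b]
    obtain ⟨T, hT⟩ := hP
    classical
    refine ⟨T.image fun t => ((pm M).map b.op).hom t, le_antisymm ?_ ?_⟩
    · rw [Finset.coe_image]
      refine Submodule.span_mono (Set.image_mono ?_)
      rw [← hT]; exact Submodule.subset_span
    · rw [Finset.coe_image, ← hT]
      exact resSpan_le b _ _ fun x hx => map_mem_resSpan b _ hx

section Square

variable {O O' : Set (Points X)} {k : openSub O ⟶ openSub O'} {A : Over S} {a : (yon S).obj A ⟶ openSub O'}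

theorem repWith_etale_chart (hO' : IsOpen O') (hsq : IsElemDistSq k a) :
    RepWith @Etale (a ≫ openSubι O') := by
  have h1 : RepWith @Etale (𝟙 ((yon S).obj A) ≫ a) := hsq.2.1 (𝟙 _) (repWith_of_isIso _)
  rw [Category.id_comp] at h1
  exact repWith_comp h1
    (repWith_le (fun _ _ k (_ : IsOpenImmersion k) => inferInstanceAs (Etale k)) (repWith_openSubι hO'))

theorem exists_equalizing (hX : IsAlgSpace X) (hO' : IsOpen O') (hk : k ≫ openSubι O' = openSubι O)
    (hsq : IsElemDistSq k a) (Z : EtOver X) (b b' : Z ⟶ EtOver.mk (a ≫ openSubι O') (repWith_etale_chart hO' hsq))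
    (z : Z.obj.left.left) (hz : Points.ofPt Z.obj.hom z ∉ O) :
    ∃ (W : EtOver X) (g : W ⟶ Z) (w : W.obj.left.left), g.hom.left.left w = z ∧ g ≫ b = g ≫ b' := by
  have hae := repWith_etale_chart hO' hsq
  haveI := mono_of_openImmersion (repWith_openSubι (X := X) hO')
  obtain ⟨R, t, s', sq⟩ := hae.1 (a ≫ openSubι O')
  obtain ⟨s, rfl⟩ := (yon S).map_surjective s'
  have : Etale t.left := hae.2 _ _ _ sq
  obtain ⟨δ', hδ₁, hδ₂⟩ := sq.exists_lift (𝟙 _) (𝟙 _) rfl
  obtain ⟨δ, rfl⟩ := (yon S).map_surjective δ'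
  have hδt : δ ≫ t = 𝟙 A := (yon S).map_injective (by
    rw [Functor.map_comp, hδ₂, CategoryTheory.Functor.map_id])
  have hδs : δ ≫ s = 𝟙 A := (yon S).map_injective (by
    rw [Functor.map_comp, hδ₁, CategoryTheory.Functor.map_id])
  have : IsOpenImmersion δ.left := Groth.Agent.H13AlgSp.SepStrat.isOpenImmersion_section δ hδt
  let bb : Z.obj.left ⟶ A := b.hom.left
  let bb' : Z.obj.left ⟶ A := b'.hom.left
  obtain ⟨m', hm₁, hm₂⟩ := sq.exists_lift ((yon S).map bb) ((yon S).map bb')
    ((EtOver.w b).trans (EtOver.w b').symm)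
  obtain ⟨m, rfl⟩ := (yon S).map_surjective m'
  have hms : m ≫ s = bb := (yon S).map_injective (by rw [Functor.map_comp]; exact hm₁)
  have hmt : m ≫ t = bb' := (yon S).map_injective (by rw [Functor.map_comp]; exact hm₂)
  let σ : Over.mk (Z.obj.left.left.fromSpecResidueField z ≫ Z.obj.left.hom) ⟶ Z.obj.left :=
    Over.homMk (Z.obj.left.left.fromSpecResidueField z) rfl
  have : IsReduced (Over.mk (Z.obj.left.left.fromSpecResidueField z ≫ Z.obj.left.hom)).left :=
    inferInstanceAs (IsReduced (Spec (Z.obj.left.left.residueField z)))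
  have key : (yon S).map (σ ≫ bb) = (yon S).map (σ ≫ bb') := by
    have e : ((yon S).map (σ ≫ bb) ≫ a) ≫ openSubι O' =
        ((yon S).map (σ ≫ bb') ≫ a) ≫ openSubι O' := by
      simp only [Functor.map_comp, Category.assoc]
      exact congrArg (_ ≫ ·) ((EtOver.w b).trans (EtOver.w b').symm)
    refine eq_of_not_mem_range hsq _ _ ((cancel_mono (openSubι O')).1 e) ?_
    rintro _ ⟨y, rfl⟩ ⟨q, hq⟩
    obtain ⟨v, rfl⟩ := (Points.schemeEquiv _).surjective y
    apply hz
    rw [← range_openSubι hX O]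
    refine ⟨q, ?_⟩
    rw [← hk, Points.map_comp, hq]
    change Points.map _ (Points.map _ (Points.ofScheme _ v)) = _
    rw [← Points.map_comp, ← Points.ofPt_eq_map_ofScheme, Category.assoc, Functor.map_comp, Category.assoc]
    rw [show (yon S).map bb ≫ a ≫ openSubι O' = Z.obj.hom from EtOver.w b, ofPt_map]
    exact congrArg (Points.ofPt Z.obj.hom) (Z.obj.left.left.fromSpecResidueField_apply z v)
  have hσ : σ ≫ bb = σ ≫ bb' := (yon S).map_injective key
  have hfac : σ ≫ m = (σ ≫ bb) ≫ δ := (yon S).map_injective (sq.hom_ext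
    (by rw [← Functor.map_comp, ← Functor.map_comp, Category.assoc, Category.assoc, Category.assoc, hms, hδs,
      Category.comp_id])
    (by rw [← Functor.map_comp, ← Functor.map_comp, Category.assoc, Category.assoc, Category.assoc, hmt, hδt,
      Category.comp_id, hσ]))
  let V := m.left ⁻¹ᵁ δ.left.opensRange
  have hzV : z ∈ V := by
    refine ⟨(σ ≫ bb).left (IsLocalRing.closedPoint _), ?_⟩
    rw [← Scheme.Hom.comp_apply, ← Over.comp_left, ← hfac, Over.comp_left, Scheme.Hom.comp_apply]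
    exact congrArg m.left (Z.obj.left.left.fromSpecResidueField_apply z _)
  refine ⟨etOpen Z V, etOpenι Z V, ⟨z, hzV⟩, rfl, ?_⟩
  have hr : Set.range (V.ι ≫ m.left) ⊆ Set.range δ.left := by
    rintro _ ⟨v, rfl⟩; exact v.2
  refine EtOver.hom_ext _ _ (Over.OverMorphism.ext ?_)
  change V.ι ≫ bb.left = V.ι ≫ bb'.left
  rw [← hms, ← hmt, Over.comp_left, Over.comp_left, ← Category.assoc, ← Category.assoc,
    ← IsOpenImmersion.lift_fac δ.left (V.ι ≫ m.left) hr, Category.assoc, Category.assoc, ← Over.comp_left,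
    ← Over.comp_left, hδs, hδt]

theorem covBy_inUnion (hX : IsAlgSpace X) (hO : IsOpen O) (hO' : IsOpen O') (hk : k ≫ openSubι O' = openSubι O)
    (hsq : IsElemDistSq k a) {E : EtOver X} (hE : InSet O' E) :
    CovBy (InUnion O (EtOver.mk (a ≫ openSubι O') (repWith_etale_chart hO' hsq))) E := by
  intro e
  by_cases he : Points.ofPt E.obj.hom e ∈ O
  · obtain ⟨W, g, w, hW, hw, hWO⟩ := exists_affine_etOpen (E := E) e
      ⟨Points.ofPt E.obj.hom ⁻¹' O, hO.preimage (Points.continuous_ofPt _)⟩ he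
    exact ⟨W, g, w, hW, Or.inl fun x => ofPt_comp g x ▸ hWO x, hw⟩
  · obtain ⟨y, hy⟩ := (range_openSubι hX O').ge (hE e)
    rcases mem_range_map_of_elemDistSq hsq y with ⟨q, rfl⟩ | ⟨q, rfl⟩
    · exact absurd (by rw [← hy, ← Points.map_comp, hk]; exact (range_openSubι hX O).le ⟨q, rfl⟩) he
    · obtain ⟨v, rfl⟩ := (Points.schemeEquiv A).surjective q
      obtain ⟨W, g, b, w, hW, hw⟩ := H13EtMod.exists_affine_over
        (E₀ := EtOver.mk (a ≫ openSubι O') (repWith_etale_chart hO' hsq)) e ⟨v, by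
          rw [← hy, ← Points.map_comp]; exact Points.ofPt_eq_map_ofScheme _ v⟩
      exact ⟨W, g, w, hW, Or.inr ⟨b⟩, hw⟩

end Square

end Groth.Agent.H12AlgSp.SubExt
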